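import Cfsg.Agent.H732.ExtPSL.Flag
import Cfsg.Agent.H53.HC.Gal
import Cfsg.Agent.S2580
import Cfsg.Agent.ClassicalGeometry.AutPSL.Auto
import Cfsg.Agent.H113.PSL.Degrees

/-!
# The characters `X θ = Ind (psi θ ⊗ 1)` of `GL_{m+1}(q)` and the automorphisms of `SL_{m+1}(q)` (helper732, S4832)

`X θ g = ∑ psi θ (g | W)`, `W` running over the `g`-invariant hyperplanes, `[L : F] = m ≥ 2`, `θ` a regular character of
`L^*`.

* `X_isIrr`, `X_sl_isIrr` : irreducibility on `GL_{m+1}(q)` and `SL_{m+1}(q)`; `psi_eq_of_X_eq`;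
* `X_map` : `X θ' (σ g) = X θ g` if `θ' (σ x) = θ x`; `X_invT` : `X θ (g⁻ᵀ) = conj (X θ g)`; `X_conj`;
* `X_one`, `X_scalar`.
-/

set_option autoImplicit false
set_option linter.unusedSectionVars false
set_option linter.style.haveILetI false

open scoped ComplexConjugate
open Cfsg

namespace Cfsg.Agent.H732.ExtPSL

open Cfsg.Agent.H53.HC Cfsg.Agent.Characters MulAction Module Cfsg.Agent.H113.PSL.Para Cfsg.Agent.H113.PSL.Hyper
open Cfsg.Agent.H139.Cusp Matrix

universe u v w

/-! ### the natural representation -/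

section rep

variable {F : Type u} [Field F] {n : ℕ}

/-- the natural representation -/
noncomputable def rep (F : Type u) [Field F] (n : ℕ) : GL (Fin n) F →* ((Fin n → F) ≃ₗ[F] (Fin n → F)) :=
  (glE (Pi.basisFun F (Fin n))).symm.toMonoidHom

theorem rep_surjective : Function.Surjective (rep F n) := (glE (Pi.basisFun F (Fin n))).symm.surjective

theorem glE_rep (A : GL (Fin n) F) : glE (Pi.basisFun F (Fin n)) (rep F n A) = A :=
  (glE (Pi.basisFun F (Fin n))).apply_symm_apply A

theorem rep_apply (A : GL (Fin n) F) (v : Fin n → F) : rep F n A v = (A : Matrix (Fin n) (Fin n) F) *ᵥ v := by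
  have h := congrArg (fun B : GL (Fin n) F => (B : Matrix (Fin n) (Fin n) F)) (glE_rep A)
  simp only [coe_glE] at h
  rw [LinearMap.toMatrix_eq_toMatrix'] at h
  rw [← h, LinearMap.toMatrix'_mulVec]
  rfl

theorem det_rep (A : GL (Fin n) F) : LinearEquiv.det (rep F n A) = GeneralLinearGroup.det A := by
  rw [← det_glE (Pi.basisFun F (Fin n)), glE_rep]

theorem hasSL_rep : HasSL (rep F n) := fun e _ => rep_surjective e

theorem hasSL_rep_sl : HasSL ((rep F n).comp (SpecialLinearGroup.toGL : SpecialLinearGroup (Fin n) F →* GL (Fin n) F)) := by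
  intro e he
  obtain ⟨A, rfl⟩ := rep_surjective e
  rw [det_rep] at he
  refine ⟨⟨(A : Matrix (Fin n) (Fin n) F), ?_⟩, ?_⟩
  · rw [← GeneralLinearGroup.val_det_apply, he, Units.val_one]
  · change rep F n (SpecialLinearGroup.toGL _) = rep F n A
    congr 1
    exact Units.ext rfl

end rep

/-! ### semilinear maps -/

section smap

variable {F : Type u} [Field F] {n : ℕ}

/-- the coordinatewise action of a field automorphism on the subspaces -/
def smap (σ : F ≃+* F) (W : Submodule F (Fin n → F)) : Submodule F (Fin n → F) where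
  carrier := {v | (fun i => σ.symm (v i)) ∈ W}
  add_mem' := by
    intro v w hv hw
    have := W.add_mem hv hw
    have e : ((fun i => σ.symm (v i)) + fun i => σ.symm (w i)) = fun i => σ.symm ((v + w) i) := by
      ext i
      simp
    rwa [e] at this
  zero_mem' := by
    have e : (fun i => σ.symm ((0 : Fin n → F) i)) = 0 := by
      ext i
      simp
    change (fun i => σ.symm ((0 : Fin n → F) i)) ∈ W
    rw [e]
    exact W.zero_mem
  smul_mem' := by
    intro c v hv
    have := W.smul_mem (σ.symm c) hv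
    have e : (σ.symm c • fun i => σ.symm (v i)) = fun i => σ.symm ((c • v) i) := by
      ext i
      simp
    rwa [e] at this

theorem mem_smap {σ : F ≃+* F} {W : Submodule F (Fin n → F)} {v : Fin n → F} :
    v ∈ smap σ W ↔ (fun i => σ.symm (v i)) ∈ W := Iff.rfl

theorem smap_symm_smap (σ : F ≃+* F) (W : Submodule F (Fin n → F)) : smap σ.symm (smap σ W) = W := by
  ext v
  rw [mem_smap, mem_smap]
  simp

theorem smap_smap_symm (σ : F ≃+* F) (W : Submodule F (Fin n → F)) : smap σ (smap σ.symm W) = W := by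
  ext v
  rw [mem_smap, mem_smap]
  simp

/-- the additive equivalence `W ≃ σ W` -/
def smapE (σ : F ≃+* F) (W : Submodule F (Fin n → F)) : W ≃+ smap σ W where
  toFun w := ⟨fun i => σ ((w : Fin n → F) i), by
    rw [mem_smap]
    simp⟩
  invFun w := ⟨fun i => σ.symm ((w : Fin n → F) i), w.2⟩
  left_inv w := by
    apply Subtype.ext
    ext i
    simp
  right_inv w := by
    apply Subtype.ext
    ext i
    simp
  map_add' v w := by
    apply Subtype.ext
    ext i
    simp

theorem coe_smapE (σ : F ≃+* F) (W : Submodule F (Fin n → F)) (w : W) (i : Fin n) :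
    (smapE σ W w : Fin n → F) i = σ ((w : Fin n → F) i) := rfl

theorem smapE_smul (σ : F ≃+* F) (W : Submodule F (Fin n → F)) (c : F) (w : W) :
    smapE σ W (c • w) = σ c • smapE σ W w := by
  apply Subtype.ext
  ext i
  change σ (c * (w : Fin n → F) i) = σ c * σ ((w : Fin n → F) i)
  rw [map_mul]

theorem rep_map (σ : F ≃+* F) (g : GL (Fin n) F) (v : Fin n → F) :
    rep F n (GeneralLinearGroup.map (σ : F →+* F) g) (fun i => σ (v i)) = fun i => σ (rep F n g v i) := by
  rw [rep_apply, rep_apply]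
  ext i
  change ∑ k, σ ((g : Matrix (Fin n) (Fin n) F) i k) * σ (v k) = σ (∑ k, (g : Matrix (Fin n) (Fin n) F) i k * v k)
  rw [map_sum]
  refine Finset.sum_congr rfl fun k _ => (map_mul _ _ _).symm

theorem map_rep_iff (g : GL (Fin n) F) (W : Submodule F (Fin n → F)) :
    W.map (rep F n g : (Fin n → F) →ₗ[F] (Fin n → F)) = W ↔ ∀ w ∈ W, rep F n g w ∈ W := by
  constructor
  · intro h w hw
    have : (rep F n g : (Fin n → F) →ₗ[F] (Fin n → F)) w ∈ W.map (rep F n g : (Fin n → F) →ₗ[F] (Fin n → F)) := ⟨w, hw, rfl⟩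
    rwa [h] at this
  · intro h
    exact map_eq_of_le (rep F n) h

theorem map_smap_iff (σ : F ≃+* F) (g : GL (Fin n) F) (W : Submodule F (Fin n → F)) :
    (smap σ W).map (rep F n (GeneralLinearGroup.map (σ : F →+* F) g) : (Fin n → F) →ₗ[F] (Fin n → F)) = smap σ W ↔
      W.map (rep F n g : (Fin n → F) →ₗ[F] (Fin n → F)) = W := by
  rw [map_rep_iff, map_rep_iff]
  constructor
  · intro h w hw
    have h1 := h (fun i => σ (w i)) (by
      rw [mem_smap]
      simpa using hw)
    rw [rep_map, mem_smap] at h1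
    simpa using h1
  · intro h w hw
    rw [mem_smap] at hw
    have h1 := h _ hw
    have h2 := rep_map σ g (fun i => σ.symm (w i))
    have e : (fun i => σ (σ.symm (w i))) = w := by
      ext i
      simp
    rw [e] at h2
    rw [h2, mem_smap]
    simpa using h1

end smap

section X

variable {F : Type u} [Field F] [Finite F] {L : Type w} [Field L] [Finite L] [Algebra F L]

/-- **the Harish-Chandra induced characters** -/
noncomputable def X (F : Type u) [Field F] [Finite F] {L : Type w} [Field L] [Algebra F L] (m : ℕ) (θ : L →*₀ ℂ) :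
    GL (Fin (m + 1)) F → ℂ :=
  letI : Fintype (dimSet F (Fin (m + 1) → F) m) := Fintype.ofFinite _
  hyp (m := m) (rep F (m + 1)) (psi L θ)

variable {m : ℕ}

theorem finrank_fin_succ : finrank F (Fin (m + 1) → F) = m + 1 := finrank_fin_fun F

theorem X_isIrr (hm : 2 ≤ m) (hL : finrank F L = m) {θ : L →*₀ ℂ} (hθ : Regular F m θ) :
    IsIrrCharacter (GL (Fin (m + 1)) F) (X F m θ) := by
  classical
  letI : Fintype (dimSet F (Fin (m + 1) → F) m) := Fintype.ofFinite _
  letI : Fintype (GL (Fin (m + 1)) F) := Fintype.ofFinite _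
  exact isIrr_hyp (rep F (m + 1)) hasSL_rep finrank_fin_succ hm (psi_isIrr θ hL hθ) (psi_isCusp L θ)

/-- the restriction to `SL` -/
theorem X_comp_sl (θ : L →*₀ ℂ) [inst : Fintype (dimSet F (Fin (m + 1) → F) m)] :
    X F m θ ∘ (SpecialLinearGroup.toGL : SpecialLinearGroup (Fin (m + 1)) F →* GL (Fin (m + 1)) F) =
      hyp (m := m) ((rep F (m + 1)).comp (SpecialLinearGroup.toGL : SpecialLinearGroup (Fin (m + 1)) F →* GL (Fin (m + 1)) F))
        (psi L θ) := by
  have h : inst = Fintype.ofFinite _ := Subsingleton.elim _ _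
  subst h
  rfl

theorem X_sl_isIrr (hm : 2 ≤ m) (hL : finrank F L = m) {θ : L →*₀ ℂ} (hθ : Regular F m θ) :
    IsIrrCharacter (SpecialLinearGroup (Fin (m + 1)) F) (X F m θ ∘ SpecialLinearGroup.toGL) := by
  classical
  letI : Fintype (dimSet F (Fin (m + 1) → F) m) := Fintype.ofFinite _
  letI : Fintype (SpecialLinearGroup (Fin (m + 1)) F) := Fintype.ofFinite _
  rw [X_comp_sl]
  exact isIrr_hyp _ hasSL_rep_sl finrank_fin_succ hm (psi_isIrr θ hL hθ) (psi_isCusp L θ)

/-- the parameters can be recovered from the restriction to `SL` -/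
theorem psi_eq_of_X_eq (hm : 2 ≤ m) (hL : finrank F L = m) {θ θ' : L →*₀ ℂ} (hθ : Regular F m θ) (hθ' : Regular F m θ')
    (h : X F m θ ∘ SpecialLinearGroup.toGL = X F m θ' ∘ SpecialLinearGroup.toGL) :
    (psi L θ : GL (Fin m) F → ℂ) = psi L θ' := by
  classical
  letI : Fintype (dimSet F (Fin (m + 1) → F) m) := Fintype.ofFinite _
  letI : Fintype (SpecialLinearGroup (Fin (m + 1)) F) := Fintype.ofFinite _
  rw [X_comp_sl, X_comp_sl] at h
  exact eq_of_hyp_eq _ hasSL_rep_sl finrank_fin_succ hm (psi_isIrr θ hL hθ) (psi_isCusp L θ) (psi_isIrr θ' hL hθ') h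

theorem exists_frob_of_X_eq (hm : 2 ≤ m) (hL : finrank F L = m) {θ θ' : L →*₀ ℂ} (hθ : Regular F m θ)
    (hθ' : Regular F m θ') (h : X F m θ ∘ SpecialLinearGroup.toGL = X F m θ' ∘ SpecialLinearGroup.toGL) :
    ∃ i < m, ∀ x : L, θ' x = θ (x ^ Nat.card F ^ i) := by
  have h1 := psi_eq_of_X_eq hm hL hθ hθ' h
  have h2 := (cusp_eq_iff (V := Fin m → F) θ θ' (by rw [Module.finrank_fin_fun, hL]) (by rw [hL]; exact hθ)).1 (by
    intro g
    have h3 := congrFun h1 (Matrix.GeneralLinearGroup.toLin.symm g)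
    have h4 : ∀ θ : L →*₀ ℂ, psi L θ (Matrix.GeneralLinearGroup.toLin.symm g : GL (Fin m) F) =
        cusp L θ (g : (Fin m → F) →ₗ[F] (Fin m → F)) := by
      intro θ
      have h5 : Matrix.GeneralLinearGroup.toLin (Matrix.GeneralLinearGroup.toLin.symm g : GL (Fin m) F) = g :=
        MulEquiv.apply_symm_apply _ g
      conv_rhs => rw [← h5]
      rfl
    rwa [h4, h4] at h3)
  rwa [hL] at h2

theorem X_class (θ : L →*₀ ℂ) : IsClassFunction (GL (Fin (m + 1)) F) (X F m θ) := by
  classical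
  intro g h
  letI : Fintype (dimSet F (Fin (m + 1) → F) m) := Fintype.ofFinite _
  unfold X hyp flagChar
  let e : dimSet F (Fin (m + 1) → F) m ≃ dimSet F (Fin (m + 1) → F) m :=
    letI := subAct (rep F (m + 1)) (dimSet F (Fin (m + 1) → F) m) (dimSet_map (rep F (m + 1)))
    MulAction.toPerm h
  symm
  refine Fintype.sum_equiv e _ _ fun W => ?_
  exact (flagTerm_conj (rep F (m + 1)) (psi_isClass L θ) h g W.1).symm

/-- **field automorphisms** -/
theorem X_map (hL : finrank F L = m) {σ : F ≃+* F} {τ : L ≃+* L}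
    (hτ : ∀ c : F, τ (algebraMap F L c) = algebraMap F L (σ c)) {θ θ' : L →*₀ ℂ} (hθ : ∀ x, θ' (τ x) = θ x)
    (g : GL (Fin (m + 1)) F) : X F m θ' (GeneralLinearGroup.map (σ : F →+* F) g) = X F m θ g := by
  classical
  letI : Fintype (dimSet F (Fin (m + 1) → F) m) := Fintype.ofFinite _
  unfold X hyp flagChar
  have hfr : ∀ (σ : F ≃+* F) (W : Submodule F (Fin (m + 1) → F)), finrank F (smap σ W) = finrank F W := fun σ W =>
    finrank_semilinear σ (smapE σ W)
  let e : dimSet F (Fin (m + 1) → F) m ≃ dimSet F (Fin (m + 1) → F) m :=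
    { toFun := fun W => ⟨smap σ W.1, (hfr σ W.1).trans W.2⟩
      invFun := fun W => ⟨smap σ.symm W.1, (hfr σ.symm W.1).trans W.2⟩
      left_inv := fun W => Subtype.ext (smap_symm_smap σ W.1)
      right_inv := fun W => Subtype.ext (smap_smap_symm σ W.1) }
  symm
  refine Fintype.sum_equiv e _ _ fun W => ?_
  change flagTerm (rep F (m + 1)) (psi L θ) g W.1 =
    flagTerm (rep F (m + 1)) (psi L θ') (GeneralLinearGroup.map (σ : F →+* F) g) (smap σ W.1)
  by_cases h : W.1.map (rep F (m + 1) g : (Fin (m + 1) → F) →ₗ[F] (Fin (m + 1) → F)) = W.1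
  · have h' := (map_smap_iff σ g W.1).2 h
    have hW : finrank F W.1 = m := W.2
    rw [flagTerm_of _ _ h, flagTerm_of _ _ h', cl_psi L θ hW, cl_psi L θ' ((hfr σ W.1).trans hW)]
    symm
    refine cusp_semilinear σ (smapE σ W.1) (smapE_smul σ W.1) (fun v => ?_) τ hτ hθ (by rw [hW, hL])
    apply Subtype.ext
    exact rep_map σ g (v : Fin (m + 1) → F)
  · have h' : ¬ _ := fun h' => h ((map_smap_iff σ g W.1).1 h')
    unfold flagTerm
    rw [dif_neg h, dif_neg h']

/-- complex conjugation -/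
theorem X_conj (θ : L →*₀ ℂ) (g : GL (Fin (m + 1)) F) : conj (X F m θ g) = X F m (conjTheta θ) g := by
  classical
  letI : Fintype (dimSet F (Fin (m + 1) → F) m) := Fintype.ofFinite _
  unfold X hyp flagChar
  rw [map_sum]
  refine Finset.sum_congr rfl fun W _ => ?_
  have hW : finrank F W.1 = m := W.2
  unfold flagTerm
  split_ifs with h
  · rw [cl_psi L θ hW, cl_psi L _ hW, cusp_star]
  · rw [map_zero]

/-- inverse transpose -/
def invTr {n : ℕ} (g : GL (Fin n) F) : GL (Fin n) F where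
  val := ((g⁻¹ : GL (Fin n) F) : Matrix (Fin n) (Fin n) F)ᵀ
  inv := ((g : GL (Fin n) F) : Matrix (Fin n) (Fin n) F)ᵀ
  val_inv := by rw [← transpose_mul, ← Units.val_mul, mul_inv_cancel, Units.val_one, transpose_one]
  inv_val := by rw [← transpose_mul, ← Units.val_mul, inv_mul_cancel, Units.val_one, transpose_one]

theorem X_invTr (hm : 2 ≤ m) (hL : finrank F L = m) {θ : L →*₀ ℂ} (hθ : Regular F m θ) (g : GL (Fin (m + 1)) F) :
    X F m θ (invTr g) = X F m (conjTheta θ) g := by
  classical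
  letI : Fintype (GL (Fin (m + 1)) F) := Fintype.ofFinite _
  obtain ⟨c, hc⟩ := Cfsg.Agent.S2580.result ((g⁻¹ : GL (Fin (m + 1)) F) : Matrix (Fin (m + 1)) (Fin (m + 1)) F)
  have h1 : invTr g = c * g⁻¹ * c⁻¹ := by
    rw [eq_mul_inv_iff_mul_eq]
    ext1
    exact hc.symm
  rw [h1, X_class θ, ← X_conj]
  exact Core.isCharacter_apply_inv (Core.isIrr_isCharacter (X_isIrr hm hL hθ)) g

theorem X_one (hm : 2 ≤ m) (θ : L →*₀ ℂ) :
    X F m θ 1 = ((Nat.card {W : Submodule F (Fin (m + 1) → F) // finrank F W = m} *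
      ∏ i ∈ Finset.Ico 1 m, (Nat.card F ^ i - 1) : ℕ) : ℂ) := by
  classical
  letI : Fintype (dimSet F (Fin (m + 1) → F) m) := Fintype.ofFinite _
  unfold X hyp
  rw [flagChar_one (rep F (m + 1)) (dimSet F (Fin (m + 1) → F) m) (psi_isClass L θ) (fun W hW => hW),
    psi_one L θ (by omega), degP_eq_Ico]
  push_cast
  rfl

theorem rep_scalar {n : ℕ} (c : Fˣ) (v : Fin n → F) : rep F n (GeneralLinearGroup.scalar (Fin n) c) v = (c : F) • v := by
  have e1 : rep F n (GeneralLinearGroup.scalar (Fin n) c) = LinearEquiv.smulOfUnit c := by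
    change (glE (Pi.basisFun F (Fin n))).symm _ = _
    rw [MulEquiv.symm_apply_eq]
    exact (glE_smul _ c _ (fun w => rfl)).symm
  rw [e1]
  rfl

theorem X_scalar (hL : finrank F L = m) (θ : L →*₀ ℂ) (h1 : ∀ a : F, a ≠ 0 → θ (algebraMap F L a) = 1) (c : Fˣ) :
    X F m θ (GeneralLinearGroup.scalar (Fin (m + 1)) c) = X F m θ 1 := by
  classical
  letI : Fintype (dimSet F (Fin (m + 1) → F) m) := Fintype.ofFinite _
  refine flagChar_scalar (rep F (m + 1)) (dimSet F (Fin (m + 1) → F) m) (psi_isClass L θ) (fun W hW => hW) (c := c)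
    (fun v => rep_scalar c v) ?_
  have h3 := psi_scalar θ hL c 1
  rw [mul_one, h1 (c : F) c.ne_zero, one_mul] at h3
  exact h3

end X

end Cfsg.Agent.H732.ExtPSL
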