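import Cfsg.Agent.H732.ExtPSL.Points
import Cfsg.Agent.H113.PSL.Facts

/-!
# S4832, rows `PSL_n(q)`, `n ≥ 3` (helper732)

`row_psl` : every prime divisor `p` of `|PSL_n(q)|`, `n ≥ 3`, divides the degree of an irreducible character which extends
to its stabiliser in `Aut(PSL_n(q))`.
-/

set_option autoImplicit false
set_option linter.unusedSectionVars false

open Cfsg

namespace Cfsg.Agent.H732.ExtPSL

open Cfsg.Agent.Characters Module Matrix Cfsg.Agent.H576.Ext Cfsg.Agent.H113.PSL.Facts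

universe u v

variable {F : Type u} [Field F] [Fintype F]

/-- primes dividing `q^i - 1`, `0 < i < n - 1`, or the number of hyperplanes -/
theorem ext_of_dvd {m p : ℕ} (hm : 2 ≤ m)
    (h : (∃ i, 1 ≤ i ∧ i < m ∧ p ∣ Fintype.card F ^ i - 1) ∨
      p ∣ Nat.card {W : Submodule F (Fin (m + 1) → F) // finrank F W = m}) :
    HasExt p (ProjectiveSpecialLinearGroup (Fin (m + 1)) F) := by
  obtain ⟨η, h1, h2, h3⟩ := exists_ext (F := F) hm
  refine ⟨η, h1, ?_, h3⟩
  rw [h2]
  rcases h with ⟨i, hi1, hi2, hi⟩ | h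
  · exact (hi.trans (Finset.dvd_prod_of_mem (fun i => Fintype.card F ^ i - 1) (Finset.mem_Ico.2 ⟨hi1, hi2⟩))).mul_left _
  · exact h.mul_right _

/-- primes dividing `q` or `(q^(n-1) - 1)/(q - 1)` -/
theorem ext_of_dvd_points {n p : ℕ} (hn : 3 ≤ n)
    (h : p ∣ Fintype.card F ∨ p ∣ ∑ i ∈ Finset.range (n - 1), Fintype.card F ^ i) :
    HasExt p (ProjectiveSpecialLinearGroup (Fin n) F) := by
  obtain ⟨η, h1, h2, h3⟩ := exists_ext_points (F := F) hn
  refine ⟨η, h1, ?_, h3⟩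
  rw [h2]
  rcases h with h | h
  · exact h.mul_right _
  · exact h.mul_left _

/-- **S4832 for `PSL_n(q)`, `n ≥ 3`.** -/
theorem row_psl {n p : ℕ} (hn : 3 ≤ n) (hp : p.Prime)
    (hd : p ∣ Nat.card (ProjectiveSpecialLinearGroup (Fin n) F)) :
    HasExt p (ProjectiveSpecialLinearGroup (Fin n) F) := by
  obtain ⟨m, rfl⟩ : ∃ m, n = m + 1 := ⟨n - 1, by omega⟩
  have hm : 2 ≤ m := by omega
  have hcard := Cfsg.Agent.H113.PSL.Degrees.card_hyper (F := F) (V := Fin (m + 1) → F) (m := m) (finrank_fin_fun F)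
  have hone : p ∣ Fintype.card F - 1 → HasExt p (ProjectiveSpecialLinearGroup (Fin (m + 1)) F) := fun h =>
    ext_of_dvd hm (Or.inl ⟨1, le_rfl, by omega, by rwa [pow_one]⟩)
  rcases cover hp hd with h | ⟨i, hi1, hi2, hi⟩ | h | ⟨i, hi1, hi2, hi⟩
  · exact ext_of_dvd_points hn (Or.inl h)
  · rcases (show i < m ∨ i = m by omega) with h3 | rfl
    · exact ext_of_dvd hm (Or.inl ⟨i, hi1, h3, hi⟩)
    · rw [← geom, hp.dvd_mul] at hi
      rcases hi with hi | hi
      · exact ext_of_dvd_points hn (Or.inr (by rwa [Nat.add_sub_cancel]))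
      · exact hone hi
  · rw [← hcard, hp.dvd_mul] at h
    rcases h with h | h
    · exact ext_of_dvd hm (Or.inr h)
    · exact hone h
  · exact ext_of_dvd hm (Or.inl ⟨i, hi1, by omega, hi⟩)

/-- the row, up to isomorphism -/
theorem row_psl_of_equiv {S : Type v} [Group S] {n p : ℕ} (hn : 3 ≤ n)
    (e : S ≃* ProjectiveSpecialLinearGroup (Fin n) F) (hp : p.Prime) (hd : p ∣ Nat.card S) : HasExt p S :=
  HasExt.of_equiv e (row_psl hn hp (by rwa [← Nat.card_congr e.toEquiv]))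

end Cfsg.Agent.H732.ExtPSL
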