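import Mathlib
import Cfsg.Agent.Schreier.ClassPSL

/-!
# Fixed points of semilinear maps on points and hyperplanes (helper732, S4832)

`card_fix_eq` : the semilinear maps `v ↦ A (σ v)` and `v ↦ A⁻ᵀ (σ v)` of `F^n` fix the same number of points of the
projective space.
-/

set_option autoImplicit false
set_option linter.unusedSectionVars false

namespace Cfsg.Agent.H732.ExtPSL

open Matrix Module

open scoped LinearAlgebra.Projectivization

universe u

variable {F : Type u} [Field F] {n : ℕ}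

/-- the semilinear map `v ↦ A (σ v)` -/
def sl (A : GL (Fin n) F) (σ : F ≃+* F) : (Fin n → F) →ₛₗ[(σ : F →+* F)] (Fin n → F) where
  toFun v := (A : Matrix (Fin n) (Fin n) F) *ᵥ (fun i => σ (v i))
  map_add' v w := by
    rw [← mulVec_add]
    congr 1
    ext i
    simp
  map_smul' c v := by
    rw [← mulVec_smul]
    congr 1
    ext i
    simp

theorem sl_apply (A : GL (Fin n) F) (σ : F ≃+* F) (v : Fin n → F) :
    sl A σ v = (A : Matrix (Fin n) (Fin n) F) *ᵥ (fun i => σ (v i)) := rfl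

theorem sl_injective (A : GL (Fin n) F) (σ : F ≃+* F) : Function.Injective (sl A σ) := by
  intro v w h
  have h1 := congrArg (fun x => ((A⁻¹ : GL (Fin n) F) : Matrix (Fin n) (Fin n) F) *ᵥ x) h
  simp only [sl_apply, mulVec_mulVec, ← Units.val_mul, inv_mul_cancel, Units.val_one, one_mulVec] at h1
  ext i
  exact σ.injective (congrFun h1 i)

section count

variable [Fintype F] [DecidableEq F]

/-- the vectors orthogonal to a non-zero vector -/
theorem card_orth_one {v : Fin n → F} (hv : v ≠ 0) :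
    (Finset.univ.filter fun w : Fin n → F => w ⬝ᵥ v = 0).card * Fintype.card F = Fintype.card F ^ n := by
  have h1 : LinearIndependent F (fun _ : Fin 1 => v) := by
    rw [linearIndependent_unique_iff]
    exact hv
  let M : Matrix (Fin 1) (Fin n) F := fun _ => v
  have h2 : M.rank = 1 := by
    have := LinearIndependent.rank_matrix (M := M) h1
    simpa using this
  have h3 := LinearMap.finrank_range_add_finrank_ker M.mulVecLin
  have h4 : finrank F (LinearMap.range M.mulVecLin) = 1 := h2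
  rw [h4, finrank_fin_fun] at h3
  have h5 : (Finset.univ.filter fun w : Fin n → F => w ⬝ᵥ v = 0).card = Nat.card (LinearMap.ker M.mulVecLin) := by
    rw [← Fintype.card_subtype, ← Nat.card_eq_fintype_card]
    refine Nat.card_congr (Equiv.subtypeEquivRight fun w => ?_)
    rw [LinearMap.mem_ker, mulVecLin_apply, dotProduct_comm]
    constructor
    · intro h
      ext i
      exact h
    · intro h
      exact congrFun h 0
  rw [h5, Module.natCard_eq_pow_finrank (K := F), Nat.card_eq_fintype_card, ← pow_succ]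
  congr 1
  omega

/-- the vectors orthogonal to two independent vectors -/
theorem card_orth_two {v u : Fin n → F} (h : LinearIndependent F ![v, u]) :
    (Finset.univ.filter fun w : Fin n → F => w ⬝ᵥ v = 0 ∧ w ⬝ᵥ u = 0).card * Fintype.card F ^ 2 = Fintype.card F ^ n := by
  let M : Matrix (Fin 2) (Fin n) F := ![v, u]
  have h2 : M.rank = 2 := by
    have := LinearIndependent.rank_matrix (M := M) h
    simpa using this
  have h3 := LinearMap.finrank_range_add_finrank_ker M.mulVecLin
  have h4 : finrank F (LinearMap.range M.mulVecLin) = 2 := h2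
  rw [h4, finrank_fin_fun] at h3
  have h5 : (Finset.univ.filter fun w : Fin n → F => w ⬝ᵥ v = 0 ∧ w ⬝ᵥ u = 0).card =
      Nat.card (LinearMap.ker M.mulVecLin) := by
    rw [← Fintype.card_subtype, ← Nat.card_eq_fintype_card]
    refine Nat.card_congr (Equiv.subtypeEquivRight fun w => ?_)
    rw [LinearMap.mem_ker, mulVecLin_apply, dotProduct_comm, dotProduct_comm w u]
    constructor
    · rintro ⟨ha, hb⟩
      ext i
      fin_cases i
      · exact ha
      · exact hb
    · intro h
      exact ⟨congrFun h 0, congrFun h 1⟩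
  rw [h5, Module.natCard_eq_pow_finrank (K := F), Nat.card_eq_fintype_card, ← pow_add]
  congr 1
  omega

/-- the common statement -/
theorem card_orth {v u : Fin n → F} (hv : v ≠ 0) [Decidable (∃ c : F, u = c • v)] :
    (Finset.univ.filter fun w : Fin n → F => w ⬝ᵥ v = 0 ∧ w ⬝ᵥ u = 0).card * Fintype.card F ^ 2 =
      if ∃ c : F, u = c • v then Fintype.card F ^ n * Fintype.card F else Fintype.card F ^ n := by
  split_ifs with h
  · obtain ⟨c, rfl⟩ := h
    rw [← card_orth_one hv, sq, ← mul_assoc]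
    congr 3
    ext w
    simp only [Finset.mem_filter, Finset.mem_univ, true_and, dotProduct_smul, and_iff_left_iff_imp]
    intro hw
    rw [hw, smul_zero]
  · apply card_orth_two
    rw [LinearIndependent.pair_iff' hv]
    intro a ha
    exact h ⟨a, ha.symm⟩

/-- the number of vectors mapped to a multiple of themselves determines the number of orthogonal pairs -/
theorem sum_orth (f : (Fin n → F) → (Fin n → F)) (hf : f 0 = 0) [DecidablePred fun v => ∃ c : F, f v = c • v] :
    (∑ v : Fin n → F, (Finset.univ.filter fun w : Fin n → F => w ⬝ᵥ v = 0 ∧ w ⬝ᵥ f v = 0).card) * Fintype.card F ^ 2 =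
      Fintype.card F ^ n * (Fintype.card F ^ 2 - 1) + Fintype.card F ^ n * Fintype.card F ^ n +
      Fintype.card F ^ n * (Fintype.card F - 1) *
        (Finset.univ.filter fun v : Fin n → F => v ≠ 0 ∧ ∃ c : F, f v = c • v).card := by
  have hq : 1 ≤ Fintype.card F := Fintype.card_pos
  have hq2 : 1 ≤ Fintype.card F ^ 2 := Nat.one_le_pow _ _ hq
  obtain ⟨a, ha⟩ : ∃ a, Fintype.card F = a + 1 := ⟨Fintype.card F - 1, by omega⟩
  obtain ⟨b, hb⟩ : ∃ b, Fintype.card F ^ 2 = b + 1 := ⟨Fintype.card F ^ 2 - 1, by omega⟩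
  rw [Finset.sum_mul]
  have h1 : ∀ v : Fin n → F, (Finset.univ.filter fun w : Fin n → F => w ⬝ᵥ v = 0 ∧ w ⬝ᵥ f v = 0).card *
      Fintype.card F ^ 2 = (if v = 0 then Fintype.card F ^ n * (Fintype.card F ^ 2 - 1) else 0) +
        Fintype.card F ^ n + (if v ≠ 0 ∧ ∃ c : F, f v = c • v then Fintype.card F ^ n * (Fintype.card F - 1) else 0) := by
    intro v
    by_cases hv : v = 0
    · subst hv
      have h2 : (Finset.univ.filter fun w : Fin n → F => w ⬝ᵥ (0 : Fin n → F) = 0 ∧ w ⬝ᵥ f 0 = 0).card =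
          Fintype.card F ^ n := by
        rw [hf, Finset.filter_true_of_mem (fun w _ => ⟨dotProduct_zero w, dotProduct_zero w⟩), Finset.card_univ,
          Fintype.card_fun, Fintype.card_fin]
      rw [h2, if_pos rfl, if_neg (fun h => h.1 rfl), hb, Nat.add_sub_cancel]
      ring
    · rw [card_orth hv, if_neg hv]
      by_cases hc : ∃ c : F, f v = c • v
      · rw [if_pos hc, if_pos ⟨hv, hc⟩, ha, Nat.add_sub_cancel]
        ring
      · rw [if_neg hc, if_neg (fun h => hc h.2)]
        ring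
  rw [Finset.sum_congr rfl fun v _ => h1 v, Finset.sum_add_distrib, Finset.sum_add_distrib, Finset.sum_ite_eq' ,
    if_pos (Finset.mem_univ _), Finset.sum_const, Finset.card_univ, Fintype.card_fun, Fintype.card_fin, smul_eq_mul,
    ← Finset.sum_filter, Finset.sum_const, smul_eq_mul]
  ring

theorem dot_sl (A : GL (Fin n) F) (σ : F ≃+* F) (v w : Fin n → F) :
    w ⬝ᵥ sl A σ v = σ ((fun i => σ.symm ((w ᵥ* (A : Matrix (Fin n) (Fin n) F)) i)) ⬝ᵥ v) := by
  rw [sl_apply, dotProduct_mulVec]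
  unfold dotProduct
  rw [map_sum]
  refine Finset.sum_congr rfl fun i _ => ?_
  rw [map_mul, RingEquiv.apply_symm_apply]

theorem fix_iff (A : GL (Fin n) F) (σ : F ≃+* F) {w : Fin n → F} (hw : w ≠ 0) :
    (∃ c : F, (fun i => σ.symm ((w ᵥ* (A : Matrix (Fin n) (Fin n) F)) i)) = c • w) ↔
      ∃ c : F, sl (Cfsg.Agent.Schreier.ClassPSL.ctr A) σ w = c • w := by
  have e1 : ∀ x : Fin n → F, x ᵥ* (A : Matrix (Fin n) (Fin n) F) = (A : Matrix (Fin n) (Fin n) F)ᵀ *ᵥ x := by
    intro x
    rw [mulVec_transpose]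
  have e2 : ((Cfsg.Agent.Schreier.ClassPSL.ctr A : GL (Fin n) F) : Matrix (Fin n) (Fin n) F) *
      (A : Matrix (Fin n) (Fin n) F)ᵀ = 1 := by
    change ((A⁻¹ : GL (Fin n) F) : Matrix (Fin n) (Fin n) F)ᵀ * (A : Matrix (Fin n) (Fin n) F)ᵀ = 1
    rw [← transpose_mul, ← Units.val_mul, mul_inv_cancel, Units.val_one, transpose_one]
  have e3 : (A : Matrix (Fin n) (Fin n) F)ᵀ *
      ((Cfsg.Agent.Schreier.ClassPSL.ctr A : GL (Fin n) F) : Matrix (Fin n) (Fin n) F) = 1 := by
    change (A : Matrix (Fin n) (Fin n) F)ᵀ * ((A⁻¹ : GL (Fin n) F) : Matrix (Fin n) (Fin n) F)ᵀ = 1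
    rw [← transpose_mul, ← Units.val_mul, inv_mul_cancel, Units.val_one, transpose_one]
  constructor
  · rintro ⟨c, hc⟩
    have h1 : w ᵥ* (A : Matrix (Fin n) (Fin n) F) = σ c • (fun i => σ (w i)) := by
      ext i
      have := congrArg σ (congrFun hc i)
      rw [RingEquiv.apply_symm_apply] at this
      rw [this]
      simp
    have hc0 : σ c ≠ 0 := by
      intro h0
      rw [h0, zero_smul, e1] at h1
      apply hw
      rw [← one_mulVec w, ← e2, ← mulVec_mulVec, h1, mulVec_zero]
    refine ⟨(σ c)⁻¹, ?_⟩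
    rw [sl_apply]
    have h2 : (fun i => σ (w i)) = (σ c)⁻¹ • (w ᵥ* (A : Matrix (Fin n) (Fin n) F)) := by
      rw [h1, smul_smul, inv_mul_cancel₀ hc0, one_smul]
    rw [h2, mulVec_smul, e1, mulVec_mulVec, e2, one_mulVec]
  · rintro ⟨c, hc⟩
    rw [sl_apply] at hc
    have h1 : (fun i => σ (w i)) = c • (w ᵥ* (A : Matrix (Fin n) (Fin n) F)) := by
      rw [e1, ← mulVec_smul, ← hc, mulVec_mulVec, e3, one_mulVec]
    have hc0 : c ≠ 0 := by
      rintro rfl
      rw [zero_smul] at h1
      apply hw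
      ext i
      have := congrFun h1 i
      exact (map_eq_zero σ).1 this
    refine ⟨σ.symm c⁻¹, ?_⟩
    have h2 : w ᵥ* (A : Matrix (Fin n) (Fin n) F) = c⁻¹ • (fun i => σ (w i)) := by
      rw [h1, smul_smul, inv_mul_cancel₀ hc0, one_smul]
    rw [h2]
    ext i
    simp

/-- **vectors mapped to multiples of themselves** -/
theorem card_vec_fix (A : GL (Fin n) F) (σ : F ≃+* F) [DecidablePred fun v => ∃ c : F, sl A σ v = c • v]
    [DecidablePred fun v => ∃ c : F, sl (Cfsg.Agent.Schreier.ClassPSL.ctr A) σ v = c • v] :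
    (Finset.univ.filter fun v : Fin n → F => v ≠ 0 ∧ ∃ c : F, sl A σ v = c • v).card =
      (Finset.univ.filter fun v : Fin n → F => v ≠ 0 ∧
        ∃ c : F, sl (Cfsg.Agent.Schreier.ClassPSL.ctr A) σ v = c • v).card := by
  classical
  let g : (Fin n → F) → (Fin n → F) := fun w i => σ.symm ((w ᵥ* (A : Matrix (Fin n) (Fin n) F)) i)
  have h1 := sum_orth (sl A σ) (map_zero _)
  have h2 := sum_orth g (by
    ext i
    change σ.symm (((0 : Fin n → F) ᵥ* (A : Matrix (Fin n) (Fin n) F)) i) = 0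
    rw [zero_vecMul]
    exact map_zero _)
  have h3 : ∑ v : Fin n → F, (Finset.univ.filter fun w : Fin n → F => w ⬝ᵥ v = 0 ∧ w ⬝ᵥ sl A σ v = 0).card =
      ∑ w : Fin n → F, (Finset.univ.filter fun v : Fin n → F => v ⬝ᵥ w = 0 ∧ v ⬝ᵥ g w = 0).card := by
    simp only [Finset.card_filter]
    rw [Finset.sum_comm]
    refine Finset.sum_congr rfl fun w _ => Finset.sum_congr rfl fun v _ => ?_
    have h4 : (w ⬝ᵥ v = 0 ∧ w ⬝ᵥ sl A σ v = 0) ↔ (v ⬝ᵥ w = 0 ∧ v ⬝ᵥ g w = 0) := by
      rw [dot_sl, dotProduct_comm v w, dotProduct_comm v (g w)]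
      exact and_congr_right fun _ => map_eq_zero σ
    by_cases h5 : w ⬝ᵥ v = 0 ∧ w ⬝ᵥ sl A σ v = 0
    · rw [if_pos h5, if_pos (h4.1 h5)]
    · rw [if_neg h5, if_neg (fun h => h5 (h4.2 h))]
  rw [h3] at h1
  rw [h1] at h2
  have h6 := Nat.add_left_cancel h2
  have hq1 : 1 < Fintype.card F := Fintype.one_lt_card
  have hpos : 0 < Fintype.card F ^ n * (Fintype.card F - 1) :=
    Nat.mul_pos (Nat.pow_pos (by omega)) (by omega)
  have h7 := Nat.eq_of_mul_eq_mul_left hpos h6
  rw [h7]
  congr 1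
  ext w
  simp only [Finset.mem_filter, Finset.mem_univ, true_and]
  exact and_congr_right fun hw => fix_iff A σ hw

end count

/-- the action on the points -/
def pact (A : GL (Fin n) F) (σ : F ≃+* F) : ℙ F (Fin n → F) → ℙ F (Fin n → F) :=
  Projectivization.map (sl A σ) (sl_injective A σ)

theorem pact_mk (A : GL (Fin n) F) (σ : F ≃+* F) (v : Fin n → F) (hv : v ≠ 0) :
    pact A σ (Projectivization.mk F v hv) = Projectivization.mk F (sl A σ v)
      (fun h => hv (sl_injective A σ (h.trans (map_zero _).symm))) := rfl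

/-- points and vectors -/
theorem card_points [Fintype F] (A : GL (Fin n) F) (σ : F ≃+* F) :
    Nat.card {x : ℙ F (Fin n → F) // pact A σ x = x} * (Fintype.card F - 1) =
      Nat.card {v : Fin n → F // v ≠ 0 ∧ ∃ c : F, sl A σ v = c • v} := by
  classical
  have h1 : Fintype.card F - 1 = Nat.card Fˣ := by
    rw [Nat.card_units, Nat.card_eq_fintype_card]
  rw [h1, ← Nat.card_prod]
  symm
  have key : ∀ (x : ℙ F (Fin n → F)) (c : Fˣ), pact A σ x = x ↔ ∃ d : F, sl A σ ((c : F) • x.rep) = d • ((c : F) • x.rep) := by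
    intro x c
    have h2 : x = Projectivization.mk F ((c : F) • x.rep) (smul_ne_zero c.ne_zero x.rep_nonzero) := by
      conv_lhs => rw [← x.mk_rep]
      rw [Projectivization.mk_eq_mk_iff']
      exact ⟨((c⁻¹ : Fˣ) : F), by rw [smul_smul, Units.inv_mul, one_smul]⟩
    conv_lhs => rw [h2, pact_mk, Projectivization.mk_eq_mk_iff']
    constructor
    · rintro ⟨a, ha⟩
      exact ⟨a, ha.symm⟩
    · rintro ⟨a, ha⟩
      exact ⟨a, ha.symm⟩
  symm
  refine Nat.card_congr (Equiv.ofBijective (fun p : {x : ℙ F (Fin n → F) // pact A σ x = x} × Fˣ =>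
    (⟨((p.2 : F)) • p.1.1.rep, smul_ne_zero p.2.ne_zero p.1.1.rep_nonzero, (key p.1.1 p.2).1 p.1.2⟩ :
      {v : Fin n → F // v ≠ 0 ∧ ∃ c : F, sl A σ v = c • v})) ⟨?_, ?_⟩)
  · rintro ⟨⟨x, hx⟩, c⟩ ⟨⟨y, hy⟩, d⟩ h
    have h2 : (c : F) • x.rep = (d : F) • y.rep := congrArg Subtype.val h
    have h3 : x = y := by
      rw [← x.mk_rep, ← y.mk_rep, Projectivization.mk_eq_mk_iff']
      refine ⟨((c⁻¹ : Fˣ) : F) * d, ?_⟩
      rw [← smul_smul, ← h2, smul_smul, Units.inv_mul, one_smul]
    subst h3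
    have h4 : (c : F) = d := by
      have h5 : ((c : F) - d) • x.rep = 0 := by rw [sub_smul, h2, sub_self]
      rcases smul_eq_zero.1 h5 with h6 | h6
      · exact sub_eq_zero.1 h6
      · exact absurd h6 x.rep_nonzero
    rw [Units.ext h4]
  · rintro ⟨v, hv, hc⟩
    obtain ⟨a, ha⟩ := Projectivization.exists_smul_eq_mk_rep F v hv
    have h2 : ((a⁻¹ : Fˣ) : F) • (Projectivization.mk F v hv).rep = v := by
      rw [← ha, Units.smul_def, smul_smul, Units.inv_mul, one_smul]
    refine ⟨⟨⟨Projectivization.mk F v hv, ?_⟩, a⁻¹⟩, Subtype.ext h2⟩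
    rw [key _ a⁻¹, h2]
    exact hc

/-- **`A σ` and `A⁻ᵀ σ` fix the same number of points** -/
theorem card_fix_eq [Fintype F] (A : GL (Fin n) F) (σ : F ≃+* F) :
    Nat.card {x : ℙ F (Fin n → F) // pact A σ x = x} =
      Nat.card {x : ℙ F (Fin n → F) // pact (Cfsg.Agent.Schreier.ClassPSL.ctr A) σ x = x} := by
  classical
  have hq1 : 1 < Fintype.card F := Fintype.one_lt_card
  apply Nat.eq_of_mul_eq_mul_right (show 0 < Fintype.card F - 1 by omega)
  rw [card_points, card_points, Nat.card_eq_fintype_card, Nat.card_eq_fintype_card, Fintype.card_subtype,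
    Fintype.card_subtype]
  exact card_vec_fix A σ

end Cfsg.Agent.H732.ExtPSL
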