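import Cfsg.Agent.H113.PSL.Hyper

/-!
# Harish-Chandra induction from the stabiliser of a hyperplane of `SL(V)` (helper732, S4832)

`ρ : G →* GL(V)`, `dim V = m + 1`, `2 ≤ m`, the image of `ρ` contains `SL(V)` (`HasSL ρ`).
For `c` a cuspidal irreducible character of `GL_m(K)`: `hyp ρ c g = ∑ c (g | W)` over the `g`-invariant hyperplanes.

* `isIrr_hyp` : `hyp ρ c` is irreducible;
* `sum_hyp_eq_zero` : `hyp ρ c`, `hyp ρ c'` are orthogonal if `c ≠ c'`.
-/

set_option autoImplicit false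
set_option linter.unusedSectionVars false
set_option linter.style.haveILetI false

open scoped ComplexConjugate
open Cfsg

namespace Cfsg.Agent.H732.ExtPSL

open Cfsg.Agent.H53.HC Cfsg.Agent.Characters MulAction Module Cfsg.Agent.H113.PSL.Para Cfsg.Agent.H113.PSL.Hyper

universe u v w

variable {K : Type u} [Field K] {V : Type v} [AddCommGroup V] [Module K V] {m : ℕ} {G : Type w} [Group G]

/-- the image of `ρ` contains the automorphisms of determinant one -/
def HasSL (ρ : G →* (V ≃ₗ[K] V)) : Prop := ∀ e : V ≃ₗ[K] V, LinearEquiv.det e = 1 → ∃ g : G, ρ g = e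

/-- **`g ↦ ∑ c (g | W)`**, over the `g`-invariant hyperplanes `W` -/
noncomputable abbrev hyp (ρ : G →* (V ≃ₗ[K] V)) [Fintype (dimSet K V m)] (c : GL (Fin m) K → ℂ) : G → ℂ :=
  flagChar ρ (dimSet K V m) c

/-- the determinant of the scalar `c` on a line -/
theorem det_smul_line {Q : Type*} [AddCommGroup Q] [Module K Q] (hQ : finrank K Q = 1) (c : Kˣ) :
    LinearEquiv.det (LinearEquiv.smulOfUnit c : Q ≃ₗ[K] Q) = c := by
  apply Units.ext
  rw [LinearEquiv.coe_det]
  have h1 : ((LinearEquiv.smulOfUnit c : Q ≃ₗ[K] Q) : Q →ₗ[K] Q) = (c : K) • LinearMap.id := by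
    ext x
    rfl
  rw [h1, LinearMap.det_smul, LinearMap.det_id, hQ, pow_one, mul_one]

variable [FiniteDimensional K V]

/-- an automorphism of a hyperplane extends to an automorphism of given determinant -/
theorem exists_ext_det (hn : finrank K V = m + 1) (W : Submodule K V) (hW : finrank K W = m) (α : W ≃ₗ[K] W) (d : Kˣ) :
    ∃ g : V ≃ₗ[K] V, (∀ w : W, g w = α w) ∧ LinearEquiv.det g = d := by
  have hQ : finrank K (V ⧸ W) = 1 := by
    have := Submodule.finrank_quotient_add_finrank W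
    omega
  obtain ⟨g, h1, h2⟩ := exists_extension W α (LinearEquiv.smulOfUnit ((LinearEquiv.det α)⁻¹ * d))
  refine ⟨g, h1, ?_⟩
  have hg : W.map (g : V →ₗ[K] V) = W := by
    apply Submodule.eq_of_le_of_finrank_eq
    · rintro _ ⟨w, hw, rfl⟩
      change g w ∈ W
      rw [h1 ⟨w, hw⟩]
      exact (α ⟨w, hw⟩).2
    · exact LinearEquiv.finrank_map_eq g W
  rw [det_quo g W hg]
  have e1 : res g W hg = α := by
    ext w
    exact h1 w
  have e2 : quo g W hg = LinearEquiv.smulOfUnit ((LinearEquiv.det α)⁻¹ * d) := by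
    apply LinearEquiv.ext
    intro w
    obtain ⟨w, rfl⟩ := Submodule.Quotient.mk_surjective _ w
    rw [quo_mk]
    exact h2 w
  rw [e1, e2, det_smul_line hQ, mul_inv_cancel_left]

/-- transitivity on the hyperplanes -/
theorem exists_map_det (hn : finrank K V = m + 1) {W W' : Submodule K V} (hW : finrank K W = m)
    (hW' : finrank K W' = m) : ∃ g : V ≃ₗ[K] V, W.map (g : V →ₗ[K] V) = W' ∧ LinearEquiv.det g = 1 := by
  obtain ⟨g, hg⟩ := exists_map_eq (K := K) (V := V) (W := W) (W' := W') (hW.trans hW'.symm)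
  obtain ⟨h, h1, h2⟩ := exists_ext_det hn W hW 1 (LinearEquiv.det g)⁻¹
  refine ⟨g * h, ?_, ?_⟩
  · have h3 : W.map (h : V →ₗ[K] V) = W := by
      apply Submodule.eq_of_le_of_finrank_eq
      · rintro _ ⟨w, hw, rfl⟩
        change h w ∈ W
        rw [h1 ⟨w, hw⟩]
        exact hw
      · exact LinearEquiv.finrank_map_eq h W
    have h4 : ((g * h : V ≃ₗ[K] V) : V →ₗ[K] V) = (g : V →ₗ[K] V).comp (h : V →ₗ[K] V) := rfl
    rw [h4, Submodule.map_comp, h3, hg]
  · rw [map_mul, h2, mul_inv_cancel]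

variable (ρ : G →* (V ≃ₗ[K] V))

/-- the Mackey term of two different hyperplanes vanishes -/
theorem exists_ortho_sl [Finite V] [Finite K] (hρ : HasSL ρ)
    (hn : finrank K V = m + 1) (hm : 2 ≤ m) {c : GL (Fin m) K → ℂ} (hc : IsIrrCharacter _ c) (hcusp : IsCusp c)
    {c' : GL (Fin m) K → ℂ} (hc' : IsIrrCharacter _ c') (W₀ W' : Submodule K V) (hW₀ : finrank K W₀ = m)
    (hW'' : finrank K W' = m) (hne' : W' ≠ W₀) [Fintype G] :
    ∃ L : Subgroup G, (∀ l ∈ L, W₀.map (ρ l : V →ₗ[K] V) = W₀) ∧ (∀ l ∈ L, W'.map (ρ l : V →ₗ[K] V) = W') ∧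
      ∀ [Fintype L], ∑ l : L, flagTerm ρ c l W₀ * conj (flagTerm ρ c' l W') = 0 := by
  classical
  have hcf := Core.isIrr_isClassFunction hc
  have hcf' := Core.isIrr_isClassFunction hc'
  have hGW0 : ∀ W : Submodule K V, Finite (W ≃ₗ[K] W) := fun W =>
    Finite.of_injective (fun e : W ≃ₗ[K] W => (e : W → W)) DFunLike.coe_injective
  have b₀ : Basis (Fin m) K W₀ := (finBasisOfFinrankEq K W₀ hW₀)
  have b₁ : Basis (Fin m) K W' := (finBasisOfFinrankEq K W' hW'')
  let D : Submodule K W₀ := W'.comap W₀.subtype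
  have hD0 : D ≠ ⊥ := by
    intro h
    have hmeet : W₀ ⊓ W' = ⊥ := by
      rw [Submodule.eq_bot_iff] at h ⊢
      rintro x ⟨hx, hx'⟩
      have := h ⟨x, hx⟩ hx'
      exact congrArg Subtype.val this
    have h2 := Submodule.finrank_sup_add_finrank_inf_eq W₀ W'
    rw [hmeet, finrank_bot] at h2
    have h3 := Submodule.finrank_le (W₀ ⊔ W')
    omega
  have hD1 : D ≠ ⊤ := by
    intro h
    apply hne'
    symm
    apply Submodule.eq_of_le_of_finrank_eq
    · intro x hx
      have : (⟨x, hx⟩ : W₀) ∈ D := by rw [h]; trivial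
      exact this
    · rw [hW₀, hW'']
  -- the subgroup
  let L : Subgroup G :=
    { carrier := {g | (∀ w' ∈ W', ρ g w' = w') ∧ ∀ v, ρ g v - v ∈ W₀ ⊓ W'}
      one_mem' := ⟨fun _ _ => by rw [map_one]; rfl, fun w => by rw [map_one]; simp⟩
      mul_mem' := by
        rintro x y ⟨hx, hx'⟩ ⟨hy, hy'⟩
        refine ⟨fun w' hw' => ?_, fun w => ?_⟩
        · rw [map_mul, LinearEquiv.mul_apply, hy w' hw', hx w' hw']
        · have : ρ (x * y) w - w = (ρ x (ρ y w) - ρ y w) + (ρ y w - w) := by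
            rw [map_mul, LinearEquiv.mul_apply]; abel
          rw [this]
          exact (W₀ ⊓ W').add_mem (hx' _) (hy' w)
      inv_mem' := by
        rintro x ⟨hx, hx'⟩
        have key : ∀ w' ∈ W', ρ x⁻¹ w' = w' := by
          intro w' hw'
          have h1 : ρ x⁻¹ (ρ x w') = w' := by
            rw [← LinearEquiv.mul_apply, ← map_mul, inv_mul_cancel, map_one]; rfl
          rwa [hx w' hw'] at h1
        refine ⟨key, fun w => ?_⟩
        have h1 := hx' w
        have h2 : ρ x⁻¹ (ρ x w - w) = ρ x w - w := key _ h1.2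
        have h3 : ρ x⁻¹ (ρ x w - w) = w - ρ x⁻¹ w := by
          rw [map_sub, ← LinearEquiv.mul_apply, ← map_mul, inv_mul_cancel, map_one]; rfl
        have h4 : ρ x⁻¹ w - w = -(ρ x w - w) := by rw [← h2, h3]; abel
        rw [h4]
        exact (W₀ ⊓ W').neg_mem h1 }
  have hL0 : ∀ l ∈ L, W₀.map (ρ l : V →ₗ[K] V) = W₀ := fun l hl => map_eq_of_le ρ fun w hw => by
    have := W₀.add_mem (hl.2 w).1 hw
    rwa [sub_add_cancel] at this
  have hL1 : ∀ l ∈ L, W'.map (ρ l : V →ₗ[K] V) = W' := fun l hl => map_eq_of_le ρ fun w hw => by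
    rw [hl.1 w hw]; exact hw
  refine ⟨L, hL0, hL1, fun {_} => ?_⟩
  letI : Fintype (radU D) := Fintype.ofFinite _
  let f : L →* radU D :=
    { toFun := fun l => ⟨res (ρ l) W₀ (hL0 l l.2), fun w => by
          change (ρ (l : G) w : V) - w ∈ W'
          exact (l.2.2 w).2, fun d hd => by
          apply Subtype.ext
          change ρ (l : G) d = d
          exact l.2.1 d hd⟩
      map_one' := by
        apply Subtype.ext
        ext w
        change (ρ 1) (w : V) = w
        rw [map_one]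
        rfl
      map_mul' := fun x y => by
        apply Subtype.ext
        ext w
        change (ρ ((x : G) * (y : G))) (w : V) = ρ x (ρ y w)
        rw [map_mul]
        rfl }
  have hf : Function.Surjective f := by
    rintro ⟨α, ha, ha'⟩
    let t : W₀ →ₗ[K] V := W₀.subtype.comp ((α : W₀ →ₗ[K] W₀) - LinearMap.id)
    have ht : ∀ w, t w = (α w : V) - w := fun w => rfl
    have htW : ∀ w, t w ∈ W₀ ⊓ W' := fun w => ⟨(α w - w).2, (show ((α w - w : W₀) : V) ∈ W' from ha w)⟩
    let t' : W₀ →ₗ[K] (W₀ ⊓ W' : Submodule K V) := LinearMap.codRestrict _ t htW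
    obtain ⟨s, hs⟩ := exists_factor (W'.mkQ.comp W₀.subtype) t' (by
      intro w hw
      rw [LinearMap.mem_ker] at hw ⊢
      have h1 : (w : V) ∈ W' := by
        have h2 : (Submodule.Quotient.mk (w : V) : V ⧸ W') = 0 := hw
        rwa [Submodule.Quotient.mk_eq_zero] at h2
      apply Subtype.ext
      change (α w : V) - w = 0
      rw [ha' w h1, sub_self])
    let N : V →ₗ[K] V := (W₀ ⊓ W').subtype.comp (s.comp W'.mkQ)
    have hN1 : ∀ v, N v ∈ W₀ ⊓ W' := fun v => (s (W'.mkQ v)).2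
    have hN2 : ∀ v ∈ W', N v = 0 := by
      intro v hv
      change ((s (Submodule.Quotient.mk v) : (W₀ ⊓ W' : Submodule K V)) : V) = 0
      rw [(Submodule.Quotient.mk_eq_zero W').2 hv, map_zero]
      rfl
    have hNN : ∀ v, N (N v) = 0 := fun v => hN2 _ (hN1 v).2
    let g : V ≃ₗ[K] V := LinearEquiv.ofLinearMap (LinearMap.id + N) (LinearMap.id - N)
      (by
        apply LinearMap.ext
        intro v
        simp [hNN])
      (by
        apply LinearMap.ext
        intro v
        simp [hNN])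
    have hg : ∀ v, g v = v + N v := fun v => rfl
    have hgW : W'.map (g : V →ₗ[K] V) = W' := by
      apply Submodule.eq_of_le_of_finrank_eq
      · rintro _ ⟨w, hw, rfl⟩
        change g w ∈ W'
        rw [hg, hN2 w hw, add_zero]
        exact hw
      · exact LinearEquiv.finrank_map_eq g W'
    have hdet : LinearEquiv.det g = 1 := by
      rw [det_quo g W' hgW]
      have e1 : res g W' hgW = 1 := by
        ext w
        change g w = w
        rw [hg, hN2 w w.2, add_zero]
      have e2 : quo g W' hgW = 1 := by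
        apply LinearEquiv.ext
        intro w
        obtain ⟨w, rfl⟩ := Submodule.Quotient.mk_surjective _ w
        rw [quo_mk]
        change _ = Submodule.Quotient.mk w
        rw [Submodule.Quotient.eq, hg, add_sub_cancel_left]
        exact (hN1 w).2
      rw [e1, e2, map_one, map_one, mul_one]
    obtain ⟨x, hx⟩ := hρ g hdet
    have hx' : ∀ v, ρ x v = v + N v := fun v => by rw [hx]; exact hg v
    have hxW : ∀ w : W₀, ρ x w = α w := by
      intro w
      rw [hx']
      have h1 : N w = t w := by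
        change ((s (W'.mkQ w) : (W₀ ⊓ W' : Submodule K V)) : V) = t w
        have := hs w
        change s (W'.mkQ w) = t' w at this
        rw [this]
        rfl
      rw [h1, ht]
      abel
    have hxL : x ∈ L := ⟨fun w' hw' => by rw [hx', hN2 w' hw', add_zero], fun v => by
      rw [hx', add_sub_cancel_left]; exact hN1 v⟩
    refine ⟨⟨x, hxL⟩, ?_⟩
    apply Subtype.ext
    ext w
    exact hxW w
  have e1 : ∀ l : L, flagTerm ρ c l W₀ * conj (flagTerm ρ c' l W') =
      (fun u : radU D => cl c (u : W₀ ≃ₗ[K] W₀) * conj (c' 1)) (f l) := by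
    intro l
    rw [flagTerm_of ρ c (hL0 l l.2), flagTerm_of ρ c' (hL1 l l.2)]
    have e2 : res (ρ (l : G)) W' (hL1 l l.2) = 1 := by
      ext w
      exact l.2.1 w w.2
    rw [e2, cl_one hcf' b₁]
    rfl
  change ∑ l : L, flagTerm ρ c l W₀ * conj (flagTerm ρ c' l W') = 0
  rw [Finset.sum_congr rfl fun l _ => e1 l,
    sum_comp_hom f hf (fun u : radU D => cl c (u : W₀ ≃ₗ[K] W₀) * conj (c' 1)), ← Finset.sum_mul,
    hcusp.sum_eq hcf b₀ D hD0 hD1, zero_mul, mul_zero]

/-- the restriction to a hyperplane is surjective -/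
theorem resHom_surjective (hρ : HasSL ρ) (hn : finrank K V = m + 1) (W : Submodule K V) (hW : finrank K W = m) :
    Function.Surjective (resHom ρ W) := by
  intro α
  obtain ⟨g, h1, h2⟩ := exists_ext_det hn W hW α 1
  obtain ⟨x, hx⟩ := hρ g h2
  have h3 : W.map (ρ x : V →ₗ[K] V) = W := map_eq_of_le ρ fun w hw => by
    rw [hx, h1 ⟨w, hw⟩]; exact (α ⟨w, hw⟩).2
  refine ⟨⟨x, h3⟩, ?_⟩
  ext w
  change ρ x w = α w
  rw [hx]
  exact h1 w

/-- **Irreducibility.** -/
theorem isIrr_hyp [Finite V] [Finite K] [Fintype G] [Fintype (dimSet K V m)] (hρ : HasSL ρ)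
    (hn : finrank K V = m + 1) (hm : 2 ≤ m) {c : GL (Fin m) K → ℂ} (hc : IsIrrCharacter _ c) (hcusp : IsCusp c) :
    IsIrrCharacter G (hyp ρ c) := by
  classical
  have hcf := Core.isIrr_isClassFunction hc
  letI := subAct ρ (dimSet K V m) (dimSet_map ρ)
  obtain ⟨W₀, hW₀⟩ := exists_dim (K := K) (V := V) (a := m) (by omega)
  have : IsPretransitive G (dimSet K V m) := by
    refine ⟨fun W W' => ?_⟩
    obtain ⟨g, hg, hd⟩ := exists_map_det hn (W := W.1) (W' := W'.1) W.2 W'.2
    obtain ⟨g, rfl⟩ := hρ g hd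
    exact ⟨g, Subtype.ext hg⟩
  unfold hyp
  rw [flagChar_eq_orbSum ρ (dimSet K V m) (dimSet_map ρ)]
  have hGW0 : ∀ W : Submodule K V, Finite (W ≃ₗ[K] W) := fun W =>
    Finite.of_injective (fun e : W ≃ₗ[K] W => (e : W → W)) DFunLike.coe_injective
  have b₀ : Basis (Fin m) K W₀ := (finBasisOfFinrankEq K W₀ hW₀)
  letI : Fintype (GL (Fin m) K) := Fintype.ofFinite _
  refine isIrr_orbSum (fun g (W : dimSet K V m) => flagTerm ρ c g W.1)
    (fun x g W => flagTerm_conj ρ hcf x g W.1) ⟨W₀, hW₀⟩ ?_ ?_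
  · have hst : ∀ g : stabilizer G (⟨W₀, hW₀⟩ : dimSet K V m), (g : G) ∈ stabW ρ W₀ := fun g =>
      congrArg Subtype.val (mem_stabilizer_iff.1 g.2)
    let f : stabilizer G (⟨W₀, hW₀⟩ : dimSet K V m) →* GL (Fin m) K :=
      (glE b₀).toMonoidHom.comp ((resHom ρ W₀).comp
        { toFun := fun g => ⟨g, hst g⟩
          map_one' := rfl
          map_mul' := fun _ _ => rfl })
    have hf : Function.Surjective f := by
      intro A
      obtain ⟨a, rfl⟩ := (glE b₀).surjective A
      obtain ⟨⟨g, hg1⟩, hg⟩ := resHom_surjective ρ hρ hn W₀ hW₀ a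
      refine ⟨⟨g, mem_stabilizer_iff.2 (Subtype.ext hg1)⟩, ?_⟩
      change glE b₀ (res (ρ g) W₀ hg1) = glE b₀ a
      congr 1
    have e1 : stabFun (fun g (W : dimSet K V m) => flagTerm ρ c g W.1) (⟨W₀, hW₀⟩ : dimSet K V m) = c ∘ f := by
      ext g
      change flagTerm ρ c (g : G) W₀ = _
      rw [flagTerm_of ρ c (hst g), cl_eq hcf b₀]
      rfl
    rw [e1]
    exact Core.isIrr_comp f hf hc
  · rintro ⟨W', hW'⟩ hne
    have hW'' : finrank K W' = m := hW'
    have hne' : W' ≠ W₀ := fun e => hne (Subtype.ext e)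
    obtain ⟨L, h1, h2, h3⟩ := exists_ortho_sl ρ hρ hn hm hc hcusp hc W₀ W' hW₀ hW'' hne'
    exact ⟨L, fun l hl => mem_stabilizer_iff.2 (Subtype.ext (h1 l hl)),
      fun l hl => mem_stabilizer_iff.2 (Subtype.ext (h2 l hl)), fun {_} => h3⟩

/-- **Orthogonality.** -/
theorem sum_hyp_eq_zero [Finite V] [Finite K] [Fintype G] [Fintype (dimSet K V m)] (hρ : HasSL ρ)
    (hn : finrank K V = m + 1) (hm : 2 ≤ m) {c : GL (Fin m) K → ℂ} (hc : IsIrrCharacter _ c) (hcusp : IsCusp c)
    {c' : GL (Fin m) K → ℂ} (hc' : IsIrrCharacter _ c') (hne : c ≠ c') :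
    ∑ g : G, hyp ρ c g * conj (hyp ρ c' g) = 0 := by
  classical
  have hcf := Core.isIrr_isClassFunction hc
  have hcf' := Core.isIrr_isClassFunction hc'
  have hGW0 : ∀ W : Submodule K V, Finite (W ≃ₗ[K] W) := fun W =>
    Finite.of_injective (fun e : W ≃ₗ[K] W => (e : W → W)) DFunLike.coe_injective
  have hGL : Finite (GL (Fin m) K) := inferInstance
  letI : Fintype (GL (Fin m) K) := Fintype.ofFinite _
  have e0 : ∀ g : G, hyp ρ c g * conj (hyp ρ c' g) =
      ∑ W : dimSet K V m, ∑ W' : dimSet K V m, flagTerm ρ c g W.1 * conj (flagTerm ρ c' g W'.1) := by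
    intro g
    unfold hyp flagChar
    rw [map_sum, Finset.sum_mul_sum]
  rw [Finset.sum_congr rfl fun g _ => e0 g, Finset.sum_comm]
  refine Finset.sum_eq_zero fun W _ => ?_
  rw [Finset.sum_comm]
  refine Finset.sum_eq_zero fun W' _ => ?_
  -- reduction to the common stabiliser
  let P : Subgroup G := stabW ρ W.1 ⊓ stabW ρ W'.1
  letI : Fintype P := Fintype.ofFinite _
  have e1 : ∑ g : G, flagTerm ρ c g W.1 * conj (flagTerm ρ c' g W'.1) =
      ∑ g : P, flagTerm ρ c g W.1 * conj (flagTerm ρ c' g W'.1) := by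
    apply Cfsg.Agent.OddOrderCharacters.Clifford.sum_eq_sum_subgroup P
    intro g hg
    have h1 : g ∉ stabW ρ W.1 ∨ g ∉ stabW ρ W'.1 := by
      by_contra hcon
      push Not at hcon
      exact hg ⟨hcon.1, hcon.2⟩
    rcases h1 with h1 | h1
    · have : flagTerm ρ c g W.1 = 0 := by
        unfold flagTerm
        rw [dif_neg]
        exact h1
      rw [this, zero_mul]
    · have : flagTerm ρ c' g W'.1 = 0 := by
        unfold flagTerm
        rw [dif_neg]
        exact h1
      rw [this, map_zero, mul_zero]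
  rw [e1]
  have b₀ : Basis (Fin m) K W.1 := (finBasisOfFinrankEq K W.1 W.2)
  have b₁ : Basis (Fin m) K W'.1 := (finBasisOfFinrankEq K W'.1 W'.2)
  let f₀ : P →* GL (Fin m) K :=
    (glE b₀).toMonoidHom.comp ((resHom ρ W.1).comp (Subgroup.inclusion inf_le_left))
  let f₁ : P →* GL (Fin m) K :=
    (glE b₁).toMonoidHom.comp ((resHom ρ W'.1).comp (Subgroup.inclusion inf_le_right))
  have e2 : ∀ g : P, flagTerm ρ c g W.1 = c (f₀ g) := by
    intro g
    rw [flagTerm_of ρ c g.2.1, cl_eq hcf b₀]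
    rfl
  have e3 : ∀ g : P, flagTerm ρ c' g W'.1 = c' (f₁ g) := by
    intro g
    rw [flagTerm_of ρ c' g.2.2, cl_eq hcf' b₁]
    rfl
  by_cases hWW : W = W'
  · subst hWW
    have e4 : ∀ g : P, flagTerm ρ c g W.1 * conj (flagTerm ρ c' g W.1) = (fun A => c A * conj (c' A)) (f₀ g) := by
      intro g
      rw [e2, flagTerm_of ρ c' g.2.2, cl_eq hcf' b₀]
      rfl
    rw [Finset.sum_congr rfl fun g _ => e4 g]
    have hf : Function.Surjective f₀ := by
      intro A
      obtain ⟨a, rfl⟩ := (glE b₀).surjective A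
      obtain ⟨⟨g, hg1⟩, hg⟩ := resHom_surjective ρ hρ hn W.1 W.2 a
      refine ⟨⟨g, hg1, hg1⟩, ?_⟩
      change glE b₀ (res (ρ g) W.1 hg1) = glE b₀ a
      congr 1
    rw [sum_comp_hom f₀ hf (fun A => c A * conj (c' A))]
    have h4 := Core.classInner_irr_ne hc hc' hne
    rw [Core.classInner_def] at h4
    rcases mul_eq_zero.1 h4 with h5 | h5
    · exact absurd h5 (inv_ne_zero Cfsg.Agent.OddOrderCharacters.Clifford.card_ne_zero')
    · rw [h5, mul_zero]
  · obtain ⟨L, h1, h2, h3⟩ := exists_ortho_sl ρ hρ hn hm hc hcusp hc' W.1 W'.1 W.2 W'.2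
      (fun h => hWW (Subtype.ext h.symm))
    letI : Fintype L := Fintype.ofFinite _
    let i : L →* P :=
      { toFun := fun l => ⟨l, h1 l l.2, h2 l l.2⟩
        map_one' := rfl
        map_mul' := fun _ _ => rfl }
    have hα : IsCharacter P (c ∘ f₀) := Core.isCharacter_comp f₀ (Core.isIrr_isCharacter hc)
    have hβ : IsCharacter P (c' ∘ f₁) := Core.isCharacter_comp f₁ (Core.isIrr_isCharacter hc')
    have h5 : classInner (c ∘ f₀) (c' ∘ f₁) = 0 := by
      refine classInner_eq_zero_of_comp i hα hβ ?_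
      rw [Core.classInner_def]
      have h6 : ∑ l : L, ((c ∘ f₀) ∘ i) l * conj (((c' ∘ f₁) ∘ i) l) = 0 := by
        rw [← h3]
        refine Finset.sum_congr rfl fun l _ => ?_
        have e5 := e2 (i l)
        have e6 := e3 (i l)
        change flagTerm ρ c (l : G) W.1 = c (f₀ (i l)) at e5
        change flagTerm ρ c' (l : G) W'.1 = c' (f₁ (i l)) at e6
        rw [e5, e6]
        rfl
      rw [h6, mul_zero]
    rw [Core.classInner_def] at h5
    rcases mul_eq_zero.1 h5 with h6 | h6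
    · exact absurd h6 (inv_ne_zero Cfsg.Agent.OddOrderCharacters.Clifford.card_ne_zero')
    · rw [← h6]
      refine Finset.sum_congr rfl fun g _ => ?_
      rw [e2, e3]
      rfl

/-- if `hyp ρ c = hyp ρ c'` then `c = c'` -/
theorem eq_of_hyp_eq [Finite V] [Finite K] [Fintype G] [Fintype (dimSet K V m)] (hρ : HasSL ρ)
    (hn : finrank K V = m + 1) (hm : 2 ≤ m) {c : GL (Fin m) K → ℂ} (hc : IsIrrCharacter _ c) (hcusp : IsCusp c)
    {c' : GL (Fin m) K → ℂ} (hc' : IsIrrCharacter _ c') (h : hyp ρ c = hyp ρ c') : c = c' := by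
  classical
  by_contra hne
  have h1 := sum_hyp_eq_zero ρ hρ hn hm hc hcusp hc' hne
  rw [← h] at h1
  have h2 := Core.classInner_irr_self (isIrr_hyp ρ hρ hn hm hc hcusp)
  rw [Core.classInner_def, h1, mul_zero] at h2
  exact one_ne_zero h2.symm

end Cfsg.Agent.H732.ExtPSL
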