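import Cfsg.Agent.H732.ExtPSL.Twist
import Cfsg.Agent.H732.ExtPSL.Arith
import Cfsg.Agent.H113.PSL.Theta

/-!
# The parameter of order `(q^m - 1)/(q - 1)` (helper732, S4832)

`Par F m θ` : `θ : L →*₀ ℂ` has order exactly `M = 1 + q + ... + q^(m-1)`.

* `exists_par`, `Par.regular`, `Par.triv`;
* `Par.fix_field` : if `X θ` on `SL_{m+1}(q)` is invariant under `cj A * fld σ` then `σ = 1`;
* `Par.fix_graph` : if it is invariant under `cj A * fld σ * itr` then `m = 2` and `σ = 1`.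
-/

set_option autoImplicit false
set_option linter.unusedSectionVars false
set_option linter.style.haveILetI false

open scoped ComplexConjugate
open Cfsg

namespace Cfsg.Agent.H732.ExtPSL

open Cfsg.Agent.H53.HC Cfsg.Agent.Characters MulAction Module Cfsg.Agent.H139.Cusp Matrix
open Cfsg.Agent.ClassicalGeometry.AutPSL.Auto

universe u v w

/-- `θ` has order `1 + q + ... + q^(m-1)` -/
structure Par (F : Type u) {L : Type w} [Field L] (m : ℕ) (θ : L →*₀ ℂ) : Prop where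
  pow : ∀ x : L, x ≠ 0 → θ x ^ (∑ i ∈ Finset.range m, Nat.card F ^ i) = 1
  dvd : ∀ k : ℕ, (∀ x : L, x ≠ 0 → θ x ^ k = 1) → (∑ i ∈ Finset.range m, Nat.card F ^ i) ∣ k

variable {F : Type u} [Field F] [Finite F] {L : Type w} [Field L] [Finite L] [Algebra F L] {m : ℕ}

theorem card_eq_mul (hL : finrank F L = m) :
    (Nat.card F - 1) * (∑ i ∈ Finset.range m, Nat.card F ^ i) = Nat.card L - 1 := by
  have hq : 2 ≤ Nat.card F := Finite.one_lt_card
  have hcard : Nat.card L = Nat.card F ^ m := by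
    rw [← hL]
    exact Module.natCard_eq_pow_finrank
  rw [hcard, mul_comm]
  exact geom_sum_mul_of_one_le (by omega) m

theorem exists_par (hL : finrank F L = m) : ∃ θ : L →*₀ ℂ, Par F m θ := by
  obtain ⟨θ, h1, h2⟩ := Cfsg.Agent.H113.PSL.Theta.exists_of_order (L := L)
    (k := ∑ i ∈ Finset.range m, Nat.card F ^ i) (by rw [← card_eq_mul hL]; exact dvd_mul_left _ _)
  exact ⟨θ, h1, h2⟩

namespace Par

theorem triv (hL : finrank F L = m) {θ : L →*₀ ℂ} (h : Par F m θ) (a : F) (ha : a ≠ 0) :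
    θ (algebraMap F L a) = 1 :=
  Cfsg.Agent.H113.PSL.Theta.theta_algebraMap (k := ∑ i ∈ Finset.range m, Nat.card F ^ i)
    (by rw [card_eq_mul hL]) h.pow a ha

theorem regular {θ : L →*₀ ℂ} (h : Par F m θ) : Regular F m θ := by
  intro i hi hin
  have hq : 2 ≤ Nat.card F := Finite.one_lt_card
  obtain ⟨x, hx⟩ := Cfsg.Agent.H113.PSL.Theta.theta_regular (k := ∑ i ∈ Finset.range m, Nat.card F ^ i)
    (q := Nat.card F) (i := i) (θ := θ) (by omega) h.dvd (by
      intro hdvd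
      have h3 : 0 < Nat.card F ^ i - 1 := Nat.sub_pos_of_lt (Nat.one_lt_pow (by omega) hq)
      have h4 := Nat.le_of_dvd h3 hdvd
      have h5 : Nat.card F ^ i ≤ ∑ i ∈ Finset.range m, Nat.card F ^ i :=
        Finset.single_le_sum (f := fun j => Nat.card F ^ j) (fun j _ => Nat.zero_le _) (Finset.mem_range.2 hin)
      omega)
  exact ⟨x, fun h => hx h.symm⟩

theorem ne_zero {θ : L →*₀ ℂ} {x : L} (hx : x ≠ 0) : θ x ≠ 0 := (map_ne_zero θ).2 hx

theorem frob_eq (hm : 2 ≤ m) {θ : L →*₀ ℂ} (h : Par F m θ) {r f : ℕ} (hr : 2 ≤ r) (hf : 0 < f)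
    (hq : Nat.card F = r ^ f) {i j : ℕ} (he : ∀ x : L, θ (x ^ r ^ j) = θ (x ^ Nat.card F ^ i)) : f ∣ j := by
  have hdvd := h.dvd
  rw [hq] at he hdvd
  have hcop := geo_coprime (r := r) hf hm
  rcases le_total j (f * i) with hle | hle
  · have h1 : (∑ i ∈ Finset.range m, (r ^ f) ^ i) ∣ r ^ j * (r ^ (f * i - j) - 1) := by
      apply hdvd
      intro x hx
      have h2 := he x
      rw [map_pow, map_pow, ← pow_mul r f i] at h2
      have h3 : r ^ (f * i) = r ^ j + r ^ j * (r ^ (f * i - j) - 1) := by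
        rw [Nat.mul_sub_one, ← pow_add, Nat.add_sub_cancel' hle, Nat.add_sub_cancel']
        exact Nat.pow_le_pow_right (by omega) hle
      rw [h3, pow_add] at h2
      have h4 := pow_ne_zero (r ^ j) (ne_zero (θ := θ) hx)
      exact mul_left_cancel₀ h4 (h2.symm.trans (mul_one _).symm)
    have h2 := Nat.Coprime.dvd_of_dvd_mul_left (hcop.pow_right j) h1
    have h3 := dvd_of_sub hr hf hm h2
    have h4 := (Nat.dvd_sub_iff_right hle (dvd_mul_right f i)).1 h3
    exact h4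
  · have h1 : (∑ i ∈ Finset.range m, (r ^ f) ^ i) ∣ r ^ (f * i) * (r ^ (j - f * i) - 1) := by
      apply hdvd
      intro x hx
      have h2 := he x
      rw [map_pow, map_pow, ← pow_mul r f i] at h2
      have h3 : r ^ j = r ^ (f * i) + r ^ (f * i) * (r ^ (j - f * i) - 1) := by
        rw [Nat.mul_sub_one, ← pow_add, Nat.add_sub_cancel' hle, Nat.add_sub_cancel']
        exact Nat.pow_le_pow_right (by omega) hle
      rw [h3, pow_add] at h2
      have h4 := pow_ne_zero (r ^ (f * i)) (ne_zero (θ := θ) hx)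
      exact mul_left_cancel₀ h4 (h2.trans (mul_one _).symm)
    have h2 := Nat.Coprime.dvd_of_dvd_mul_left (hcop.pow_right (f * i)) h1
    have h3 := dvd_of_sub hr hf hm h2
    have h4 := (Nat.dvd_sub_iff_left hle (dvd_mul_right f i)).1 h3
    exact h4

theorem conj_frob (hm : 2 ≤ m) {θ : L →*₀ ℂ} (h : Par F m θ) {r f : ℕ} (hr : 2 ≤ r) (hf : 0 < f)
    (hq : Nat.card F = r ^ f) {i j : ℕ} (he : ∀ x : L, conj (θ (x ^ r ^ j)) = θ (x ^ Nat.card F ^ i)) :
    m = 2 ∧ f ∣ j := by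
  have hdvd := h.dvd
  rw [hq] at he hdvd
  have hcop := geo_coprime (r := r) hf hm
  have h0 : (∑ i ∈ Finset.range m, (r ^ f) ^ i) ∣ r ^ (f * i) + r ^ j := by
    apply hdvd
    intro x hx
    have h2 := he x
    rw [conj_theta_eq, map_inv₀, map_pow, map_pow, ← pow_mul r f i] at h2
    rw [pow_add, ← h2]
    exact inv_mul_cancel₀ (pow_ne_zero _ (ne_zero hx))
  rcases le_total j (f * i) with hle | hle
  · have h1 : (∑ i ∈ Finset.range m, (r ^ f) ^ i) ∣ r ^ j * (r ^ (f * i - j) + 1) := by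
      rw [mul_add, mul_one, ← pow_add, Nat.add_sub_cancel' hle]
      exact h0
    have h2 := Nat.Coprime.dvd_of_dvd_mul_left (hcop.pow_right j) h1
    obtain ⟨h5, h3⟩ := dvd_of_add hr hf hm h2
    exact ⟨h5, (Nat.dvd_sub_iff_right hle (dvd_mul_right f i)).1 h3⟩
  · have h1 : (∑ i ∈ Finset.range m, (r ^ f) ^ i) ∣ r ^ (f * i) * (r ^ (j - f * i) + 1) := by
      rw [mul_add, mul_one, ← pow_add, Nat.add_sub_cancel' hle, add_comm]
      exact h0
    have h2 := Nat.Coprime.dvd_of_dvd_mul_left (hcop.pow_right (f * i)) h1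
    obtain ⟨h5, h3⟩ := dvd_of_add hr hf hm h2
    exact ⟨h5, (Nat.dvd_sub_iff_left hle (dvd_mul_right f i)).1 h3⟩

end Par

/-! ### automorphisms of `SL` -/

theorem toGL_cj_fld {n : ℕ} (A : GL (Fin n) F) (σ : F ≃+* F) (g : SpecialLinearGroup (Fin n) F) :
    SpecialLinearGroup.toGL ((cj A * fld σ : MulAut (SpecialLinearGroup (Fin _) F)) g) =
      A * GeneralLinearGroup.map (σ : F →+* F) (SpecialLinearGroup.toGL g) * A⁻¹ := by
  apply Units.ext
  rfl

theorem toGL_itr {n : ℕ} (g : SpecialLinearGroup (Fin n) F) :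
    SpecialLinearGroup.toGL (itr g) = invTr (SpecialLinearGroup.toGL g) := by
  apply Units.ext
  rfl

/-- twisting `θ` -/
theorem regular_comp {θ : L →*₀ ℂ} (h : Regular F m θ) (τ : L ≃+* L) :
    Regular F m (θ.comp (τ : L →+* L).toMonoidWithZeroHom) := by
  intro i hi hin
  obtain ⟨y, hy⟩ := h i hi hin
  refine ⟨τ.symm y, ?_⟩
  change θ (τ (τ.symm y)) ≠ θ (τ (τ.symm y ^ Nat.card F ^ i))
  rw [map_pow τ, RingEquiv.apply_symm_apply]
  exact hy

theorem regular_conj {θ : L →*₀ ℂ} (h : Regular F m θ) : Regular F m (conjTheta θ) := by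
  intro i hi hin
  obtain ⟨y, hy⟩ := h i hi hin
  refine ⟨y, fun h1 => hy ?_⟩
  rw [conjTheta_apply, conjTheta_apply] at h1
  exact star_injective h1

theorem X_fld (hL : finrank F L = m) (θ : L →*₀ ℂ)
    {σ : F ≃+* F} {τ : L ≃+* L} (hτ : ∀ c : F, τ (algebraMap F L c) = algebraMap F L (σ c))
    (A : GL (Fin (m + 1)) F) (g : SpecialLinearGroup (Fin (m + 1)) F) :
    X F m θ (SpecialLinearGroup.toGL ((cj A * fld σ : MulAut (SpecialLinearGroup (Fin _) F)) g)) =
      X F m (θ.comp (τ : L →+* L).toMonoidWithZeroHom) (SpecialLinearGroup.toGL g) := by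
  rw [toGL_cj_fld, X_class θ, X_map hL hτ (θ := θ.comp (τ : L →+* L).toMonoidWithZeroHom) (fun x => rfl)]

/-- a power of the `q`-power map is trivial on `F` -/
theorem eq_one_of_dvd {p f j : ℕ} {σ : F ≃+* F} (hσ : ∀ x, σ x = x ^ p ^ j) (hq : Nat.card F = p ^ f) (h : f ∣ j) :
    σ = 1 := by
  obtain ⟨k, rfl⟩ := h
  letI : Fintype F := Fintype.ofFinite F
  apply RingEquiv.ext
  intro x
  change σ x = x
  rw [hσ, pow_mul, ← hq, Nat.card_eq_fintype_card]
  exact FiniteField.pow_card_pow k x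

namespace Par

theorem fix_field (hm : 2 ≤ m) (hL : finrank F L = m) {θ : L →*₀ ℂ} (h : Par F m θ) (A : GL (Fin (m + 1)) F)
    (σ : F ≃+* F) (hfix : ∀ g : SpecialLinearGroup (Fin (m + 1)) F,
      X F m θ (SpecialLinearGroup.toGL ((cj A * fld σ : MulAut (SpecialLinearGroup (Fin _) F)) g)) = X F m θ (SpecialLinearGroup.toGL g)) : σ = 1 := by
  obtain ⟨p, hp'⟩ := CharP.exists F
  have : Fact p.Prime := ⟨CharP.char_is_prime F p⟩
  letI : Fintype F := Fintype.ofFinite F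
  obtain ⟨f, -, hf⟩ := FiniteField.card F p
  rw [← Nat.card_eq_fintype_card] at hf
  obtain ⟨j, hj⟩ := Gal.exists_frob_pow (p := p) σ
  obtain ⟨τ, hτ1, hτ2⟩ := Gal.exists_ext (L := L) hj
  have hreg := h.regular
  obtain ⟨i, -, hi⟩ := exists_frob_of_X_eq hm hL hreg (regular_comp hreg τ) (by
    funext g
    exact ((X_fld hL θ hτ2 A g).symm.trans (hfix g)).symm)
  refine eq_one_of_dvd hj hf (h.frob_eq hm (Fact.out : p.Prime).two_le f.2 hf (i := i) fun x => ?_)
  rw [← hi, ← hτ1]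
  rfl

theorem fix_graph (hm : 2 ≤ m) (hL : finrank F L = m) {θ : L →*₀ ℂ} (h : Par F m θ) (A : GL (Fin (m + 1)) F)
    (σ : F ≃+* F) (hfix : ∀ g : SpecialLinearGroup (Fin (m + 1)) F,
      X F m θ (SpecialLinearGroup.toGL ((cj A * fld σ * itr : MulAut (SpecialLinearGroup (Fin _) F)) g)) = X F m θ (SpecialLinearGroup.toGL g)) :
    m = 2 ∧ σ = 1 := by
  obtain ⟨p, hp'⟩ := CharP.exists F
  have : Fact p.Prime := ⟨CharP.char_is_prime F p⟩
  letI : Fintype F := Fintype.ofFinite F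
  obtain ⟨f, -, hf⟩ := FiniteField.card F p
  rw [← Nat.card_eq_fintype_card] at hf
  obtain ⟨j, hj⟩ := Gal.exists_frob_pow (p := p) σ
  obtain ⟨τ, hτ1, hτ2⟩ := Gal.exists_ext (L := L) hj
  have hreg := h.regular
  have hreg' := regular_comp hreg τ
  obtain ⟨i, -, hi⟩ := exists_frob_of_X_eq hm hL hreg (regular_conj hreg') (by
    funext g
    have h1 := hfix g
    rw [MulAut.mul_apply, X_fld hL θ hτ2 A, toGL_itr, X_invTr hm hL hreg'] at h1
    exact h1.symm)
  have h2 := h.conj_frob hm (Fact.out : p.Prime).two_le f.2 hf (i := i) (j := j) fun x => by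
    rw [← hi, ← hτ1]
    rfl
  exact ⟨h2.1, eq_one_of_dvd hj hf h2.2⟩

end Par

end Cfsg.Agent.H732.ExtPSL
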