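import Cfsg.Agent.H732.ExtPSL.Par
import Cfsg.Agent.H67.ExtBase
import Cfsg.Agent.H525.ExtMult
import Cfsg.Agent.H113.PSL.Pass
import Cfsg.Agent.ClassicalGeometry.AutPSL.Main
import Cfsg.Agent.Schreier.ClassPSL

/-!
# The characters `X θ` of `PSL_{m+1}(q)` extend to their stabilisers (helper732, S4832)

`exists_ext` : `m ≥ 2`: there is `η ∈ Irr(PSL_{m+1}(q))` of degree `#hyperplanes * ∏_{0<i<m} (q^i - 1)` which extends to its
stabiliser in `Aut(PSL_{m+1}(q))`.
-/

set_option autoImplicit false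
set_option linter.unusedSectionVars false
set_option linter.style.haveILetI false

open scoped ComplexConjugate
open Cfsg

namespace Cfsg.Agent.H732.ExtPSL

open Cfsg.Agent.H53.HC Cfsg.Agent.Characters Module Cfsg.Agent.H139.Cusp Matrix
open Cfsg.Agent.ClassicalGeometry.AutPSL.Auto Cfsg.Agent.ClassicalGeometry.AutPSL.Root
open Cfsg.Agent.ClassicalGeometry.AutPSL.Main
open Cfsg.Agent.H576.Ext hiding cj

universe u v w

/-! ### generalities -/

/-- `Inn S` of square free index in `A` -/
theorem sylCycIn_of_squarefree {S : Type u} [Group S] [Finite S] {A : Subgroup (MulAut S)}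
    (h : Squarefree ((MulAut.conj (G := S)).range.relIndex A)) : SylCycIn A := by
  intro ℓ hℓ P hPA hP
  have : Fact ℓ.Prime := ⟨hℓ⟩
  have hfin : Finite (MulAut S) := inferInstance
  refine exists_gen_of_isCyclic_map ?_
  have h1 : IsPGroup ℓ (P.map (QuotientGroup.mk' (Cfsg.Inn S))) := hP.map _
  obtain ⟨n, hn⟩ := IsPGroup.iff_card.1 h1
  have h2 : Nat.card (P.map (QuotientGroup.mk' (Cfsg.Inn S))) ∣ Nat.card (A.map (QuotientGroup.mk' (Cfsg.Inn S))) :=
    Subgroup.card_dvd_of_le (Subgroup.map_mono hPA)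
  have h3 : Nat.card (A.map (QuotientGroup.mk' (Cfsg.Inn S))) = (MulAut.conj (G := S)).range.relIndex A := by
    have h4 := Subgroup.relIndex_ker A (QuotientGroup.mk' (Cfsg.Inn S))
    rw [QuotientGroup.ker_mk'] at h4
    rw [← h4]
  rw [hn, h3] at h2
  have h5 : n ≤ 1 := by
    by_contra h6
    have h7 : ℓ * ℓ ∣ (MulAut.conj (G := S)).range.relIndex A := by
      rw [← sq]
      exact (pow_dvd_pow ℓ (by omega)).trans h2
    exact hℓ.one_lt.ne' (Nat.isUnit_iff.1 (h ℓ h7))
  have h6 : n = 0 ∨ n = 1 := by omega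
  rcases h6 with h6 | h6
  · have h7 : Subsingleton (P.map (QuotientGroup.mk' (Cfsg.Inn S))) := by
      rw [← Finite.card_le_one_iff_subsingleton, hn, h6, pow_zero]
    exact isCyclic_of_subsingleton
  · exact isCyclic_of_prime_card (p := ℓ) (by rw [hn, h6, pow_one])

section psl

variable {F : Type u} [Field F] {n : ℕ}

theorem conj_pr (g : SpecialLinearGroup (Fin n) F) :
    MulAut.conj (pr g) = lift (cj (SpecialLinearGroup.toGL g)) := by
  ext x
  obtain ⟨x, rfl⟩ := pr_surjective x
  rw [lift_pr, MulAut.conj_apply, ← map_inv, ← map_mul, ← map_mul]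
  congr 1

/-- the homomorphism `GL → Aut PSL` -/
def toAut (F : Type u) [Field F] (n : ℕ) : GL (Fin n) F →* MulAut (ProjectiveSpecialLinearGroup (Fin n) F) :=
  (lift (ι := Fin n) (F := F)).comp cj

theorem toAut_apply (A : GL (Fin n) F) : toAut F n A = lift (cj A) := rfl

theorem toAut_eq_one (hn : 2 ≤ n) {A : GL (Fin n) F} (h : toAut F n A = 1) :
    ∃ c : Fˣ, A = GeneralLinearGroup.scalar (Fin n) c := by
  have : Nontrivial (Fin n) := Fin.nontrivial_iff_two_le.2 hn
  obtain ⟨⟨r, hr⟩, -⟩ := injective_aux (C := A) (σ := (1 : F ≃+* F)) (τ := 1)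
    (by rw [map_one, mul_one, map_one]; exact h)
  have hr0 : r ≠ 0 := by
    rintro rfl
    have h1 : (A : Matrix (Fin n) (Fin n) F) = 0 := by rw [← hr, map_zero]
    have h2 : (A : Matrix (Fin n) (Fin n) F) * ((A⁻¹ : GL (Fin n) F) : Matrix (Fin n) (Fin n) F) = 1 := by
      rw [← Units.val_mul, mul_inv_cancel, Units.val_one]
    rw [h1, zero_mul] at h2
    have i : Fin n := ⟨0, by omega⟩
    have := congrFun (congrFun h2 i) i
    rw [one_apply_eq] at this
    exact zero_ne_one this
  refine ⟨Units.mk0 r hr0, ?_⟩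
  apply Units.ext
  rw [← hr]
  rfl

theorem toAut_scalar (c : Fˣ) : toAut F n (GeneralLinearGroup.scalar (Fin n) c) = 1 := by
  rw [toAut_apply, cj_eq_one_of_scalar (r := (c : F)) rfl, map_one]

theorem center_psl (hn : 2 ≤ n) : Subgroup.center (ProjectiveSpecialLinearGroup (Fin n) F) = ⊥ := by
  rw [Subgroup.eq_bot_iff_forall]
  intro x hx
  obtain ⟨g, rfl⟩ := pr_surjective x
  have h1 : MulAut.conj (pr g) = 1 := by
    ext y
    rw [MulAut.conj_apply, MulAut.one_apply, ← Subgroup.mem_center_iff.1 hx y, mul_inv_cancel_right]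
  rw [conj_pr] at h1
  obtain ⟨c, hc⟩ := toAut_eq_one hn h1
  rw [pr_eq_one_iff, Matrix.SpecialLinearGroup.mem_center_iff]
  have h2 : scalar (Fin n) (c : F) = (g : Matrix (Fin n) (Fin n) F) := by
    have := congrArg (fun B : GL (Fin n) F => (B : Matrix (Fin n) (Fin n) F)) hc
    exact this.symm
  refine ⟨c, ?_, h2⟩
  have h3 := g.2
  rw [← h2, scalar_apply, det_diagonal, Finset.prod_const, Finset.card_univ] at h3
  exact h3

variable [Fintype F]

/-- `|Inn S|` in the group of the inner-diagonal automorphisms -/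
theorem relIndex_inn (hn : 2 ≤ n) : (MulAut.conj (G := ProjectiveSpecialLinearGroup (Fin n) F)).range.relIndex
    (toAut F n).range ∣ Nat.gcd n (Fintype.card F - 1) := by
  rw [← Subgroup.index_comap, ← Cfsg.Agent.H113.PSL.Pass.index_range_toPGL hn,
    ← Subgroup.index_comap_of_surjective _ (ProjGenLinGroup.mk_surjective (n := Fin n) (R := F))]
  apply Subgroup.index_dvd_of_le
  intro A hA
  obtain ⟨x, hx⟩ := hA
  obtain ⟨g, rfl⟩ := pr_surjective x
  have h1 : ProjectiveSpecialLinearGroup.toPGL (pr g) = ProjGenLinGroup.mk (SpecialLinearGroup.toGL g) :=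
    ProjectiveSpecialLinearGroup.toPGL_mk g
  rw [h1] at hx
  obtain ⟨u, hu⟩ := ProjGenLinGroup.mk_eq_mk_iff.1 hx
  refine Subgroup.mem_comap.2 ⟨pr g, ?_⟩
  rw [conj_pr, ← toAut_apply, ← hu, map_mul, toAut_scalar, mul_one]

end psl

section main

variable {F : Type u} [Field F] [Fintype F] {L : Type w} [Field L] [Finite L] [Algebra F L] {m : ℕ}

/-- deflation to `PSL` -/
theorem exists_deflate (hm : 2 ≤ m) (hL : finrank F L = m) {θ : L →*₀ ℂ} (h : Par F m θ) :
    ∃ η : ProjectiveSpecialLinearGroup (Fin (m + 1)) F → ℂ, IsIrrCharacter _ η ∧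
      ∀ g : SpecialLinearGroup (Fin (m + 1)) F, η (pr g) = X F m θ (SpecialLinearGroup.toGL g) := by
  classical
  have hirr := X_sl_isIrr hm hL h.regular
  letI : Fintype (Subgroup.center (SpecialLinearGroup (Fin (m + 1)) F)) := Fintype.ofFinite _
  have h1 : ∀ z : Subgroup.center (SpecialLinearGroup (Fin (m + 1)) F),
      (X F m θ ∘ SpecialLinearGroup.toGL) (z : SpecialLinearGroup (Fin (m + 1)) F) =
        (X F m θ ∘ SpecialLinearGroup.toGL) 1 := by
    rintro ⟨z, hz⟩
    obtain ⟨r, hr1, hr⟩ := Matrix.SpecialLinearGroup.mem_center_iff.1 hz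
    have hr0 : r ≠ 0 := by
      rintro rfl
      rw [Fintype.card_fin, zero_pow (by omega)] at hr1
      exact zero_ne_one hr1
    have h2 : SpecialLinearGroup.toGL z = GeneralLinearGroup.scalar (Fin (m + 1)) (Units.mk0 r hr0) := by
      apply Units.ext
      exact hr.symm
    rw [Function.comp_apply, Function.comp_apply, h2, map_one]
    exact X_scalar hL θ (h.triv hL) _
  have hsum : ∑ z : Subgroup.center (SpecialLinearGroup (Fin (m + 1)) F),
      (X F m θ ∘ SpecialLinearGroup.toGL) (z : SpecialLinearGroup (Fin (m + 1)) F) ≠ 0 := by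
    rw [Finset.sum_congr rfl fun z _ => h1 z, Finset.sum_const, nsmul_eq_mul]
    refine mul_ne_zero ?_ (Core.isIrr_apply_one_ne_zero hirr)
    rw [Finset.card_univ]
    exact_mod_cast Fintype.card_ne_zero
  obtain ⟨χ', h'⟩ := Blocks.Deflate.exists_deflation (Subgroup.center (SpecialLinearGroup (Fin (m + 1)) F)) _ hirr hsum
  exact ⟨_, χ'.2, fun g => (congrFun h' g).symm⟩

/-- the matrices of determinant one as elements of `SL` -/
def slOf (F : Type u) [Field F] (n : ℕ) : (GeneralLinearGroup.det (n := Fin n) (R := F)).ker →* SpecialLinearGroup (Fin n) F where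
  toFun A := ⟨((A : GL (Fin n) F) : Matrix (Fin n) (Fin n) F), by
    have h := A.2
    rw [MonoidHom.mem_ker] at h
    rw [← GeneralLinearGroup.val_det_apply, h, Units.val_one]⟩
  map_one' := rfl
  map_mul' _ _ := rfl

theorem toGL_slOf {n : ℕ} (A : (GeneralLinearGroup.det (n := Fin n) (R := F)).ker) :
    SpecialLinearGroup.toGL (slOf F n A) = A := Units.ext rfl

theorem slOf_surjective {n : ℕ} : Function.Surjective (slOf F n) := by
  intro g
  refine ⟨⟨SpecialLinearGroup.toGL g, ?_⟩, ?_⟩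
  · rw [MonoidHom.mem_ker]
    apply Units.ext
    exact g.2
  · apply Subtype.ext
    rfl

variable {θ : L →*₀ ℂ} {η : ProjectiveSpecialLinearGroup (Fin (m + 1)) F → ℂ}

theorem mem_stab_lift (hη : ∀ g : SpecialLinearGroup (Fin (m + 1)) F, η (pr g) = X F m θ (SpecialLinearGroup.toGL g))
    (e : MulAut (SpecialLinearGroup (Fin (m + 1)) F)) :
    lift e ∈ stab η ↔ ∀ g : SpecialLinearGroup (Fin (m + 1)) F,
      X F m θ (SpecialLinearGroup.toGL (e g)) = X F m θ (SpecialLinearGroup.toGL g) := by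
  rw [mem_stab]
  constructor
  · intro h g
    have := h (pr g)
    rwa [lift_pr, hη, hη] at this
  · intro h s
    obtain ⟨g, rfl⟩ := pr_surjective s
    rw [lift_pr, hη, hη]
    exact h g

theorem range_toAut_le (hη : ∀ g : SpecialLinearGroup (Fin (m + 1)) F, η (pr g) = X F m θ (SpecialLinearGroup.toGL g)) :
    (toAut F (m + 1)).range ≤ stab η := by
  rintro _ ⟨A, rfl⟩
  rw [toAut_apply, mem_stab_lift hη]
  intro g
  have h1 : SpecialLinearGroup.toGL (cj A g) = A * SpecialLinearGroup.toGL g * A⁻¹ := Units.ext rfl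
  rw [h1]
  exact X_class θ _ _

/-- the elements of the stabiliser -/
theorem stab_cases (hm : 2 ≤ m) (hL : finrank F L = m) (h : Par F m θ)
    (hη : ∀ g : SpecialLinearGroup (Fin (m + 1)) F, η (pr g) = X F m θ (SpecialLinearGroup.toGL g))
    {α : MulAut (ProjectiveSpecialLinearGroup (Fin (m + 1)) F)} (hα : α ∈ stab η) :
    α ∈ (toAut F (m + 1)).range ∨ (m = 2 ∧ ∃ A : GL (Fin (m + 1)) F, α = lift (cj A * itr)) := by
  obtain ⟨p, hp'⟩ := CharP.exists F
  have : Fact p.Prime := ⟨CharP.char_is_prime F p⟩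
  rcases surj_three p (by omega) α with ⟨A, σ, rfl⟩ | ⟨A, σ, rfl⟩
  · left
    have h1 := h.fix_field hm hL A σ ((mem_stab_lift hη _).1 hα)
    subst h1
    exact ⟨A, by rw [map_one, mul_one]; rfl⟩
  · right
    obtain ⟨h1, h2⟩ := h.fix_graph hm hL A σ ((mem_stab_lift hη _).1 hα)
    subst h2
    exact ⟨h1, A, by rw [map_one, mul_one]⟩

/-- **extension, `m ≥ 3`** -/
theorem ext_of_three (hm : 3 ≤ m) (hL : finrank F L = m) (h : Par F m θ) (hirr : IsIrrCharacter _ η)
    (hη : ∀ g : SpecialLinearGroup (Fin (m + 1)) F, η (pr g) = X F m θ (SpecialLinearGroup.toGL g)) :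
    ExtTo η (stab η) := by
  classical
  have hst : (toAut F (m + 1)).range ⊓ stab η = stab η := by
    apply inf_of_le_right
    intro α hα
    rcases stab_cases (by omega) hL h hη hα with h1 | ⟨h1, -⟩
    · exact h1
    · omega
  have hX := X_isIrr (by omega) hL h.regular
  rw [← hst]
  have e1 : ∀ n : (GeneralLinearGroup.det (n := Fin (m + 1)) (R := F)).ker,
      X F m θ (n : GL (Fin (m + 1)) F) = η (pr (slOf F (m + 1) n)) := by
    intro n
    rw [hη, toGL_slOf]
  refine extTo_of_hom (center_psl (by omega)) hirr (toAut F (m + 1)) (GeneralLinearGroup.det (n := Fin (m + 1)) (R := F)).ker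
    (pr.comp (slOf F (m + 1))) (pr_surjective.comp slOf_surjective) (fun n => ?_) hX (fun z hz => ?_) ?_
  · rw [MonoidHom.comp_apply, conj_pr, toGL_slOf]
    rfl
  · obtain ⟨c, rfl⟩ := toAut_eq_one (by omega) hz
    exact X_scalar hL θ (h.triv hL) c
  · intro _
    have h2 : IsIrrCharacter (GeneralLinearGroup.det (n := Fin (m + 1)) (R := F)).ker
        (fun n => η (pr (slOf F (m + 1) n))) :=
      Core.isIrr_comp (pr.comp (slOf F (m + 1))) (pr_surjective.comp slOf_surjective) hirr
    have h3 : (fun n : (GeneralLinearGroup.det (n := Fin (m + 1)) (R := F)).ker => X F m θ (n : GL (Fin (m + 1)) F)) =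
        (fun n => η (pr (slOf F (m + 1) n))) := funext e1
    rw [h3]
    exact Core.classInner_irr_self h2

/-- **extension, `m = 2`** -/
theorem ext_of_two (hm : m = 2) (hL : finrank F L = m) (h : Par F m θ) (hirr : IsIrrCharacter _ η)
    (hη : ∀ g : SpecialLinearGroup (Fin (m + 1)) F, η (pr g) = X F m θ (SpecialLinearGroup.toGL g)) :
    ExtTo η (stab η) := by
  classical
  refine extTo_of_sylCyc (center_psl (by omega)) hirr (inn_le_stab hirr) le_rfl (sylCycIn_of_squarefree ?_)
  have hI : (MulAut.conj (G := ProjectiveSpecialLinearGroup (Fin (m + 1)) F)).range ≤ (toAut F (m + 1)).range := by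
    rintro _ ⟨x, rfl⟩
    obtain ⟨g, rfl⟩ := pr_surjective x
    exact ⟨_, (conj_pr g).symm⟩
  have hR := range_toAut_le hη
  rw [← Subgroup.relIndex_mul_relIndex _ _ _ hI hR]
  have h1 := (relIndex_inn (F := F) (n := m + 1) (by omega)).trans (Nat.gcd_dvd_left _ _)
  have h2 : (toAut F (m + 1)).range.relIndex (stab η) ∣ 2 := by
    rw [Subgroup.relIndex_dvd_two_iff]
    by_cases hex : ∃ A : GL (Fin (m + 1)) F, lift (cj A * itr) ∈ stab η
    · obtain ⟨A, hA⟩ := hex
      refine ⟨_, hA, fun β hβ => ?_⟩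
      rcases stab_cases (by omega) hL h hη hβ with h3 | ⟨-, B, rfl⟩
      · exact Or.inr h3
      · left
        rw [← map_mul]
        have h4 : (cj B * itr * (cj A * itr) : MulAut (SpecialLinearGroup (Fin (m + 1)) F)) =
            cj (B * Cfsg.Agent.Schreier.ClassPSL.ctr A) := by
          rw [mul_assoc, ← mul_assoc itr, Cfsg.Agent.Schreier.ClassPSL.itr_mul_cj, mul_assoc, itr_mul_itr, mul_one, map_mul]
        rw [h4]
        exact ⟨_, rfl⟩
    · refine ⟨1, (stab η).one_mem, fun β hβ => Or.inr ?_⟩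
      rcases stab_cases (by omega) hL h hη hβ with h3 | ⟨-, B, rfl⟩
      · exact h3
      · exact absurd ⟨B, hβ⟩ hex
  subst hm
  have h3 : (MulAut.conj (G := ProjectiveSpecialLinearGroup (Fin (2 + 1)) F)).range.relIndex (toAut F (2 + 1)).range = 1 ∨
      (MulAut.conj (G := ProjectiveSpecialLinearGroup (Fin (2 + 1)) F)).range.relIndex (toAut F (2 + 1)).range = 3 :=
    (Nat.dvd_prime Nat.prime_three).1 h1
  have h4 := (Nat.dvd_prime Nat.prime_two).1 h2
  have s6 : Squarefree (3 * 2) := by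
    rw [Nat.squarefree_mul (by norm_num)]
    exact ⟨Nat.prime_three.squarefree, Nat.prime_two.squarefree⟩
  rcases h3 with h3 | h3 <;> rcases h4 with h4 | h4 <;> rw [h3, h4]
  · simp
  · simpa using Nat.prime_two.squarefree
  · simpa using Nat.prime_three.squarefree
  · exact s6

end main

/-- **The character of degree `#hyperplanes * ∏_{0<i<m} (q^i - 1)` extends to its stabiliser.** -/
theorem exists_ext {F : Type u} [Field F] [Fintype F] {m : ℕ} (hm : 2 ≤ m) :
    ∃ η : ProjectiveSpecialLinearGroup (Fin (m + 1)) F → ℂ, IsIrrCharacter _ η ∧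
      charDegree η = Nat.card {W : Submodule F (Fin (m + 1) → F) // finrank F W = m} *
        ∏ i ∈ Finset.Ico 1 m, (Fintype.card F ^ i - 1) ∧ ExtTo η (stab η) := by
  obtain ⟨p, hp⟩ := CharP.exists F
  have hpp : Fact p.Prime := ⟨CharP.char_is_prime F p⟩
  have hnz : NeZero m := ⟨by omega⟩
  let L := FiniteField.Extension F p m
  have hL : Module.finrank F L = m := FiniteField.finrank_extension F p m
  obtain ⟨θ, h⟩ := exists_par (F := F) (L := L) hL
  obtain ⟨η, h1, h2⟩ := exists_deflate hm hL h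
  refine ⟨η, h1, ?_, ?_⟩
  · apply Blocks.Basic.charDegree_of_eq
    have h3 := h2 1
    rw [map_one, map_one, X_one hm θ, Nat.card_eq_fintype_card (α := F)] at h3
    exact h3
  · rcases (show m = 2 ∨ 3 ≤ m by omega) with h4 | h4
    · exact ext_of_two h4 hL h h1 h2
    · exact ext_of_three h4 hL h h1 h2

end Cfsg.Agent.H732.ExtPSL
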