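import Cfsg.Agent.H732.ExtPSL.Count
import Cfsg.Agent.H732.ExtPSL.Stab
import Cfsg.Agent.S0157

/-!
# The character of degree `q (q^(n-1) - 1)/(q - 1)` of `PSL_n(q)` extends to `Aut(PSL_n(q))` (helper732, S4832)

`exists_ext_points` : the permutation character on the points of the projective space minus one is an irreducible
character which extends to `Aut(PSL_n(q))`, `n ≥ 3`.
-/

set_option autoImplicit false
set_option linter.unusedSectionVars false
set_option linter.style.haveILetI false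

open Cfsg

namespace Cfsg.Agent.H732.ExtPSL

open Cfsg.Agent.Characters Module Matrix MulAction
open Cfsg.Agent.ClassicalGeometry.AutPSL.Auto Cfsg.Agent.ClassicalGeometry.AutPSL.Root
open Cfsg.Agent.ClassicalGeometry.AutPSL.Main
open Cfsg.Agent.H576.Ext hiding cj
open Cfsg.Agent.Schreier.ClassPSL

open scoped LinearAlgebra.Projectivization

universe u

section D

variable {F : Type u} [Field F] {n : ℕ}

/-- the automorphisms `cj A * fld σ` of `SL` -/
def fldSub (F : Type u) [Field F] (n : ℕ) : Subgroup (MulAut (Matrix.SpecialLinearGroup (Fin n) F)) where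
  carrier := {e | ∃ (A : GL (Fin n) F) (σ : F ≃+* F), e = cj A * fld σ}
  one_mem' := ⟨1, 1, by rw [map_one, map_one, mul_one]⟩
  mul_mem' := by
    rintro _ _ ⟨A, σ, rfl⟩ ⟨B, τ, rfl⟩
    refine ⟨A * GeneralLinearGroup.map (σ : F →+* F) B, σ * τ, ?_⟩
    rw [map_mul cj, map_mul fld, mul_assoc, ← mul_assoc (fld σ), fld_mul_cj]
    simp only [mul_assoc]
  inv_mem' := by
    rintro _ ⟨A, σ, rfl⟩
    refine ⟨GeneralLinearGroup.map ((σ⁻¹ : F ≃+* F) : F →+* F) A⁻¹, σ⁻¹, ?_⟩
    rw [_root_.mul_inv_rev, ← map_inv, ← map_inv, fld_mul_cj]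

/-- the projective semilinear group, as a group of automorphisms of `PSL` -/
def DD (F : Type u) [Field F] (n : ℕ) : Subgroup (MulAut (ProjectiveSpecialLinearGroup (Fin n) F)) :=
  (fldSub F n).map lift

theorem mem_DD {α : MulAut (ProjectiveSpecialLinearGroup (Fin n) F)} :
    α ∈ DD F n ↔ ∃ (A : GL (Fin n) F) (σ : F ≃+* F), α = lift (cj A * fld σ) := by
  constructor
  · rintro ⟨e, ⟨A, σ, rfl⟩, rfl⟩
    exact ⟨A, σ, rfl⟩
  · rintro ⟨A, σ, rfl⟩
    exact ⟨_, ⟨A, σ, rfl⟩, rfl⟩

theorem inn_le_DD : (MulAut.conj (G := ProjectiveSpecialLinearGroup (Fin n) F)).range ≤ DD F n := by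
  rintro _ ⟨x, rfl⟩
  obtain ⟨g, rfl⟩ := pr_surjective x
  rw [mem_DD]
  exact ⟨SpecialLinearGroup.toGL g, 1, by rw [conj_pr, map_one, mul_one]⟩

theorem itr_conj (A : GL (Fin n) F) (σ : F ≃+* F) :
    lift itr * lift (cj A * fld σ) * (lift itr)⁻¹ = lift (cj (ctr A) * fld σ) := by
  rw [← map_inv, ← map_mul, ← map_mul]
  congr 1
  rw [mul_inv_eq_iff_eq_mul, ← mul_assoc, itr_mul_cj, mul_assoc, itr_mul_fld, ← mul_assoc]

theorem itr_conj_mem {d : MulAut (ProjectiveSpecialLinearGroup (Fin n) F)} (hd : d ∈ DD F n) :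
    lift itr * d * (lift itr)⁻¹ ∈ DD F n := by
  obtain ⟨A, σ, rfl⟩ := mem_DD.1 hd
  rw [itr_conj, mem_DD]
  exact ⟨_, _, rfl⟩

theorem cases_DD [Fintype F] (hn : 3 ≤ n) (α : MulAut (ProjectiveSpecialLinearGroup (Fin n) F)) :
    α ∈ DD F n ∨ ∃ d ∈ DD F n, α = d * lift itr := by
  obtain ⟨p, hp'⟩ := CharP.exists F
  have : Fact p.Prime := ⟨CharP.char_is_prime F p⟩
  rcases surj_three p hn α with ⟨A, σ, rfl⟩ | ⟨A, σ, rfl⟩
  · exact Or.inl (mem_DD.2 ⟨A, σ, rfl⟩)
  · exact Or.inr ⟨_, mem_DD.2 ⟨A, σ, rfl⟩, by rw [← map_mul]⟩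

theorem norm_DD [Fintype F] (hn : 3 ≤ n) (a d : MulAut (ProjectiveSpecialLinearGroup (Fin n) F)) (hd : d ∈ DD F n) :
    a * d * a⁻¹ ∈ DD F n := by
  rcases cases_DD hn a with h | ⟨b, hb, rfl⟩
  · exact (DD F n).mul_mem ((DD F n).mul_mem h hd) ((DD F n).inv_mem h)
  · have e : b * lift itr * d * (b * lift itr)⁻¹ = b * (lift itr * d * (lift itr)⁻¹) * b⁻¹ := by group
    rw [e]
    exact (DD F n).mul_mem ((DD F n).mul_mem hb (itr_conj_mem hd)) ((DD F n).inv_mem hb)

end D

section St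

variable {F : Type u} [Field F] {n : ℕ}

theorem pr_smul_mk (g : Matrix.SpecialLinearGroup (Fin n) F) (v : Fin n → F) (hv : v ≠ 0)
    (hv' : (g : Matrix (Fin n) (Fin n) F) *ᵥ v ≠ 0) :
    (pr g : ProjectiveSpecialLinearGroup (Fin n) F) • Projectivization.mk F v hv =
      Projectivization.mk F ((g : Matrix (Fin n) (Fin n) F) *ᵥ v) hv' := rfl

/-- equivariance -/
theorem pact_smul (A : GL (Fin n) F) (σ : F ≃+* F) (s : ProjectiveSpecialLinearGroup (Fin n) F) (x : ℙ F (Fin n → F)) :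
    lift (cj A * fld σ) s • pact A σ x = pact A σ (s • x) := by
  obtain ⟨g, rfl⟩ := pr_surjective s
  induction x using Projectivization.ind with
  | _ v hv =>
    have hgv : (g : Matrix (Fin n) (Fin n) F) *ᵥ v ≠ 0 := by
      intro h
      apply hv
      have h2 := congrArg (fun x => ((g⁻¹ : Matrix.SpecialLinearGroup (Fin n) F) : Matrix (Fin n) (Fin n) F) *ᵥ x) h
      simp only [mulVec_mulVec, ← Matrix.SpecialLinearGroup.coe_mul, inv_mul_cancel, Matrix.SpecialLinearGroup.coe_one,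
        one_mulVec, mulVec_zero] at h2
      exact h2
    have h1 : ((cj A * fld σ : MulAut (Matrix.SpecialLinearGroup (Fin n) F)) g : Matrix (Fin n) (Fin n) F) *ᵥ (sl A σ v) =
        sl A σ ((g : Matrix (Fin n) (Fin n) F) *ᵥ v) := by
      rw [MulAut.mul_apply, coe_cj, sl_apply, sl_apply, mulVec_mulVec]
      have h2 : (A : Matrix (Fin n) (Fin n) F) * (fld σ g : Matrix (Fin n) (Fin n) F) *
          ((A⁻¹ : GL (Fin n) F) : Matrix (Fin n) (Fin n) F) * (A : Matrix (Fin n) (Fin n) F) =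
          (A : Matrix (Fin n) (Fin n) F) * (fld σ g : Matrix (Fin n) (Fin n) F) := by
        rw [mul_assoc _ _ (A : Matrix (Fin n) (Fin n) F), ← Units.val_mul, inv_mul_cancel, Units.val_one, mul_one]
      rw [h2, ← mulVec_mulVec]
      congr 1
      ext i
      change ∑ k, σ ((g : Matrix (Fin n) (Fin n) F) i k) * σ (v k) = σ (∑ k, (g : Matrix (Fin n) (Fin n) F) i k * v k)
      rw [map_sum]
      exact Finset.sum_congr rfl fun k _ => (map_mul _ _ _).symm
    rw [lift_pr, pr_smul_mk g v hv hgv, pact_mk, pact_mk, pr_smul_mk _ _ _ (by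
      rw [h1]
      exact fun h => hgv (sl_injective A σ (h.trans (map_zero _).symm)))]
    congr 1

theorem pact_injective (A : GL (Fin n) F) (σ : F ≃+* F) : Function.Injective (pact A σ) := by
  have : RingHomInvPair (σ : F →+* F) (σ.symm : F →+* F) := RingHomInvPair.of_ringEquiv σ
  exact Projectivization.map_injective (τ := (σ.symm : F →+* F)) (sl A σ) (sl_injective A σ)

/-- the point stabilisers -/
theorem map_stabilizer (A : GL (Fin n) F) (σ : F ≃+* F) (x : ℙ F (Fin n → F)) :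
    (stabilizer (ProjectiveSpecialLinearGroup (Fin n) F) x).map (lift (cj A * fld σ)).toMonoidHom =
      stabilizer (ProjectiveSpecialLinearGroup (Fin n) F) (pact A σ x) := by
  ext s
  obtain ⟨t, rfl⟩ := (lift (cj A * fld σ)).surjective s
  rw [mem_stabilizer_iff, pact_smul]
  constructor
  · rintro ⟨u, hu, h⟩
    have h1 : u = t := (lift (cj A * fld σ)).injective h
    subst h1
    rw [mem_stabilizer_iff.1 hu]
  · intro h
    exact ⟨t, mem_stabilizer_iff.2 (pact_injective A σ h), rfl⟩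

theorem two_trans : IsMultiplyPretransitive (ProjectiveSpecialLinearGroup (Fin n) F) (ℙ F (Fin n → F)) 2 := by
  have h : IsMultiplyPretransitive (Matrix.SpecialLinearGroup (Fin n) F) (ℙ F (Fin n → F)) 2 := inferInstance
  constructor
  intro x y
  obtain ⟨g, hg⟩ := h.exists_smul_eq x y
  refine ⟨QuotientGroup.mk g, ?_⟩
  rw [← hg]
  ext i
  rfl

theorem exists_two (a b c d : ℙ F (Fin n → F)) (hab : a ≠ b) (hcd : c ≠ d) :
    ∃ g : ProjectiveSpecialLinearGroup (Fin n) F, g • a = c ∧ g • b = d :=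
  is_two_pretransitive_iff.1 two_trans hab hcd

theorem card_points_eq [Fintype F] (hn : 1 ≤ n) : Nat.card (ℙ F (Fin n → F)) =
    Fintype.card F * (∑ i ∈ Finset.range (n - 1), Fintype.card F ^ i) + 1 := by
  rw [Projectivization.card_of_finrank F (Fin n → F) (n := n) (by simp), Nat.card_eq_fintype_card]
  obtain ⟨k, rfl⟩ : ∃ k, n = k + 1 := ⟨n - 1, by omega⟩
  rw [Finset.sum_range_succ', Nat.add_sub_cancel, Finset.mul_sum]
  congr 1
  refine Finset.sum_congr rfl fun i _ => ?_
  rw [pow_succ']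

theorem finite_points [Fintype F] : Finite (ℙ F (Fin n → F)) := by
  unfold Projectivization
  infer_instance

theorem stabilizer_injective [Fintype F] (hn : 2 ≤ n) :
    Function.Injective (fun x : ℙ F (Fin n → F) => stabilizer (ProjectiveSpecialLinearGroup (Fin n) F) x) := by
  classical
  intro x y hxy
  by_contra hne
  have hfin := finite_points (F := F) (n := n)
  letI : Fintype (ℙ F (Fin n → F)) := Fintype.ofFinite _
  have hq : 1 < Fintype.card F := Fintype.one_lt_card
  have hcard : 3 ≤ Fintype.card (ℙ F (Fin n → F)) := by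
    rw [← Nat.card_eq_fintype_card, card_points_eq (by omega)]
    have : 1 ≤ ∑ i ∈ Finset.range (n - 1), Fintype.card F ^ i := by
      have h1 := Finset.single_le_sum (f := fun i => Fintype.card F ^ i) (s := Finset.range (n - 1))
        (fun i _ => Nat.zero_le _) (Finset.mem_range.2 (show 0 < n - 1 by omega))
      simpa using h1
    nlinarith
  obtain ⟨z, hz⟩ : ∃ z : ℙ F (Fin n → F), z ∉ ({x, y} : Finset (ℙ F (Fin n → F))) := by
    by_contra hno
    push Not at hno
    have h1 := Finset.card_le_card (fun z _ => hno z : (Finset.univ : Finset (ℙ F (Fin n → F))) ⊆ {x, y})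
    have h2 := Finset.card_le_two (a := x) (b := y)
    rw [Finset.card_univ] at h1
    omega
  simp only [Finset.mem_insert, Finset.mem_singleton, not_or] at hz
  obtain ⟨g, hg1, hg2⟩ := exists_two x y x z hne (Ne.symm hz.1)
  have h1 : g ∈ stabilizer (ProjectiveSpecialLinearGroup (Fin n) F) y := by
    have h2 : g ∈ stabilizer (ProjectiveSpecialLinearGroup (Fin n) F) x := mem_stabilizer_iff.2 hg1
    have h3 : stabilizer (ProjectiveSpecialLinearGroup (Fin n) F) x =
      stabilizer (ProjectiveSpecialLinearGroup (Fin n) F) y := hxy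
    rwa [h3] at h2
  rw [mem_stabilizer_iff, hg2] at h1
  exact hz.2 h1

/-- the set of the point stabilisers -/
def Om (F : Type u) [Field F] (n : ℕ) : Type u :=
  {H : Subgroup (ProjectiveSpecialLinearGroup (Fin n) F) // ∃ x : ℙ F (Fin n → F),
    stabilizer (ProjectiveSpecialLinearGroup (Fin n) F) x = H}

instance instActOm : MulAction (DD F n) (Om F n) where
  smul d H := ⟨H.1.map (d : MulAut (ProjectiveSpecialLinearGroup (Fin n) F)).toMonoidHom, by
    obtain ⟨A, σ, h⟩ := mem_DD.1 d.2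
    obtain ⟨x, hx⟩ := H.2
    refine ⟨pact A σ x, ?_⟩
    rw [← map_stabilizer, h, ← hx]⟩
  one_smul H := Subtype.ext (Subgroup.map_id _)
  mul_smul a b H := Subtype.ext (by
    change H.1.map ((a : MulAut (ProjectiveSpecialLinearGroup (Fin n) F)).toMonoidHom.comp
      (b : MulAut (ProjectiveSpecialLinearGroup (Fin n) F)).toMonoidHom) = _
    rw [← Subgroup.map_map]
    rfl)

/-- the point with given stabiliser -/
def omk (x : ℙ F (Fin n → F)) : Om F n := ⟨_, x, rfl⟩

theorem omk_surjective : Function.Surjective (omk (F := F) (n := n)) := by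
  rintro ⟨H, x, rfl⟩
  exact ⟨x, rfl⟩

theorem omk_injective [Fintype F] (hn : 2 ≤ n) : Function.Injective (omk (F := F) (n := n)) := fun _ _ h =>
  stabilizer_injective hn (congrArg Subtype.val h)

theorem smul_omk {A : GL (Fin n) F} {σ : F ≃+* F} {d : MulAut (ProjectiveSpecialLinearGroup (Fin n) F)} (hd : d ∈ DD F n)
    (h : d = lift (cj A * fld σ)) (x : ℙ F (Fin n → F)) : (⟨d, hd⟩ : DD F n) • omk x = omk (pact A σ x) := by
  apply Subtype.ext
  change (stabilizer (ProjectiveSpecialLinearGroup (Fin n) F) x).map d.toMonoidHom = _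
  rw [h, map_stabilizer]
  rfl

theorem smul_omk_conj (s : ProjectiveSpecialLinearGroup (Fin n) F) (x : ℙ F (Fin n → F)) :
    (⟨MulAut.conj s, inn_le_DD ⟨s, rfl⟩⟩ : DD F n) • omk x = omk (s • x) := by
  apply Subtype.ext
  exact (stabilizer_smul_eq_stabilizer_map_conj s x).symm

theorem finite_om [Fintype F] : Finite (Om F n) := by
  have := finite_points (F := F) (n := n)
  exact Finite.of_surjective _ omk_surjective

theorem card_om [Fintype F] (hn : 2 ≤ n) : Nat.card (Om F n) = Nat.card (ℙ F (Fin n → F)) :=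
  (Nat.card_congr (Equiv.ofBijective _ ⟨omk_injective hn, omk_surjective⟩)).symm

theorem two_trans_om : IsMultiplyPretransitive (DD F n) (Om F n) 2 := by
  rw [is_two_pretransitive_iff]
  intro a b c d hab hcd
  obtain ⟨a, rfl⟩ := omk_surjective a
  obtain ⟨b, rfl⟩ := omk_surjective b
  obtain ⟨c, rfl⟩ := omk_surjective c
  obtain ⟨d, rfl⟩ := omk_surjective d
  obtain ⟨g, hg1, hg2⟩ := exists_two a b c d (fun h => hab (by rw [h])) (fun h => hcd (by rw [h]))
  exact ⟨⟨MulAut.conj g, inn_le_DD ⟨g, rfl⟩⟩, by rw [smul_omk_conj, hg1], by rw [smul_omk_conj, hg2]⟩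

/-- the number of fixed points -/
theorem card_fixedBy [Fintype F] (hn : 2 ≤ n) {A : GL (Fin n) F} {σ : F ≃+* F}
    {d : MulAut (ProjectiveSpecialLinearGroup (Fin n) F)} (hd : d ∈ DD F n) (h : d = lift (cj A * fld σ)) :
    Nat.card (fixedBy (Om F n) (⟨d, hd⟩ : DD F n)) = Nat.card {x : ℙ F (Fin n → F) // pact A σ x = x} := by
  symm
  refine Nat.card_congr (Equiv.subtypeEquiv (Equiv.ofBijective _ ⟨omk_injective hn, omk_surjective⟩) fun x => ?_)
  rw [mem_fixedBy]
  change _ ↔ (⟨d, hd⟩ : DD F n) • omk x = omk x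
  rw [smul_omk hd h]
  exact ⟨fun h => by rw [h], fun h => omk_injective hn h⟩

theorem card_fixedBy_conj [Fintype F] (hn : 2 ≤ n) (s : ProjectiveSpecialLinearGroup (Fin n) F) :
    Nat.card (fixedBy (Om F n) (⟨MulAut.conj s, inn_le_DD ⟨s, rfl⟩⟩ : DD F n)) =
      Nat.card (fixedBy (ℙ F (Fin n → F)) s) := by
  symm
  refine Nat.card_congr (Equiv.subtypeEquiv (Equiv.ofBijective _ ⟨omk_injective hn, omk_surjective⟩) fun x => ?_)
  rw [mem_fixedBy, mem_fixedBy]
  change _ ↔ (⟨MulAut.conj s, inn_le_DD ⟨s, rfl⟩⟩ : DD F n) • omk x = omk x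
  rw [smul_omk_conj]
  exact ⟨fun h => by rw [h], fun h => omk_injective hn h⟩

end St

/-- **The character of degree `q (q^(n-1) - 1)/(q - 1)` extends to `Aut(PSL_n(q))`.** -/
theorem exists_ext_points {F : Type u} [Field F] [Fintype F] {n : ℕ} (hn : 3 ≤ n) :
    ∃ η : ProjectiveSpecialLinearGroup (Fin n) F → ℂ, IsIrrCharacter _ η ∧
      charDegree η = Fintype.card F * (∑ i ∈ Finset.range (n - 1), Fintype.card F ^ i) ∧ ExtTo η (stab η) := by
  classical
  have hfp := finite_points (F := F) (n := n)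
  have hfo := finite_om (F := F) (n := n)
  have hfin : Finite (ProjectiveSpecialLinearGroup (Fin n) F) := by
    unfold ProjectiveSpecialLinearGroup
    infer_instance
  have hfa : Finite (MulAut (ProjectiveSpecialLinearGroup (Fin n) F)) := inferInstance
  have hcard := card_points_eq (F := F) (n := n) (by omega)
  have hq : 1 < Fintype.card F := Fintype.one_lt_card
  have hpos : 1 ≤ ∑ i ∈ Finset.range (n - 1), Fintype.card F ^ i := by
    have h1 := Finset.single_le_sum (f := fun i => Fintype.card F ^ i) (s := Finset.range (n - 1))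
      (fun i _ => Nat.zero_le _) (Finset.mem_range.2 (show 0 < n - 1 by omega))
    simpa using h1
  have hcard2 : 2 ≤ Nat.card (ℙ F (Fin n → F)) := by
    rw [hcard]
    nlinarith
  have h2 := two_trans (F := F) (n := n)
  have h2' := two_trans_om (F := F) (n := n)
  have htr : IsPretransitive (ProjectiveSpecialLinearGroup (Fin n) F) (ℙ F (Fin n → F)) :=
    MulAction.isPretransitive_of_is_two_pretransitive
  have htr' : IsPretransitive (DD F n) (Om F n) := MulAction.isPretransitive_of_is_two_pretransitive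
  have hη := (Cfsg.Agent.S0157.result (G := ProjectiveSpecialLinearGroup (Fin n) F) (ℙ F (Fin n → F)) hcard2).2 h2
  have hψ := (Cfsg.Agent.S0157.result (G := DD F n) (Om F n) (by rw [card_om (by omega)]; exact hcard2)).2 h2'
  have hinv : ∀ (a : MulAut (ProjectiveSpecialLinearGroup (Fin n) F)) (ha : a ∈ (⊤ : Subgroup _))
      (d : MulAut (ProjectiveSpecialLinearGroup (Fin n) F)) (hd : d ∈ DD F n),
      (Nat.card (fixedBy (Om F n) (⟨a * d * a⁻¹, norm_DD hn a d hd⟩ : DD F n)) : ℂ) - 1 =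
        (Nat.card (fixedBy (Om F n) (⟨d, hd⟩ : DD F n)) : ℂ) - 1 := by
    intro a _ d hd
    have hcl := Core.isIrr_isClassFunction hψ
    rcases cases_DD hn a with ha | ⟨b, hb, rfl⟩
    · exact hcl ⟨d, hd⟩ ⟨a, ha⟩
    · have hd' := itr_conj_mem hd
      have e : (⟨b * lift itr * d * (b * lift itr)⁻¹, norm_DD hn (b * lift itr) d hd⟩ : DD F n) =
          ⟨b, hb⟩ * ⟨lift itr * d * (lift itr)⁻¹, hd'⟩ * ⟨b, hb⟩⁻¹ := by
        apply Subtype.ext
        change b * lift itr * d * (b * lift itr)⁻¹ = b * (lift itr * d * (lift itr)⁻¹) * b⁻¹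
        group
      rw [e]
      refine (hcl ⟨lift itr * d * (lift itr)⁻¹, hd'⟩ ⟨b, hb⟩).trans ?_
      obtain ⟨A, σ, hA⟩ := mem_DD.1 hd
      have hB : lift itr * d * (lift itr)⁻¹ = lift (cj (ctr A) * fld σ) := by rw [hA, itr_conj]
      change (Nat.card (fixedBy (Om F n) (⟨lift itr * d * (lift itr)⁻¹, hd'⟩ : DD F n)) : ℂ) - 1 = _
      rw [card_fixedBy (by omega) hd hA, card_fixedBy (by omega) hd' hB, ← card_fix_eq]
  have hψη : ∀ s : ProjectiveSpecialLinearGroup (Fin n) F,
      (Nat.card (fixedBy (Om F n) (⟨MulAut.conj s, inn_le_DD ⟨s, rfl⟩⟩ : DD F n)) : ℂ) - 1 =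
        (Nat.card (fixedBy (ℙ F (Fin n → F)) s) : ℂ) - 1 := by
    intro s
    rw [card_fixedBy_conj (by omega)]
  have hst : stab (fun s : ProjectiveSpecialLinearGroup (Fin n) F =>
      (Nat.card (fixedBy (ℙ F (Fin n → F)) s) : ℂ) - 1) = ⊤ := by
    rw [eq_top_iff]
    intro a _ s
    change (Nat.card (fixedBy (ℙ F (Fin n → F)) (a s)) : ℂ) - 1 = (Nat.card (fixedBy (ℙ F (Fin n → F)) s) : ℂ) - 1
    rw [← hψη, ← hψη, ← hinv a trivial (MulAut.conj s) (inn_le_DD ⟨s, rfl⟩)]
    have e : (⟨MulAut.conj (a s), inn_le_DD ⟨a s, rfl⟩⟩ : DD F n) =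
        ⟨a * MulAut.conj s * a⁻¹, norm_DD hn a _ (inn_le_DD ⟨s, rfl⟩)⟩ :=
      Subtype.ext (mul_conj_mul_inv a s).symm
    rw [e]
  refine ⟨_, hη, ?_, ?_⟩
  · apply Blocks.Basic.charDegree_of_eq
    have h3 : fixedBy (ℙ F (Fin n → F)) (1 : ProjectiveSpecialLinearGroup (Fin n) F) = Set.univ := by
      ext i
      simp
    rw [h3, Nat.card_univ, hcard]
    push_cast
    ring
  · rw [hst]
    refine extTo_of_step (center_psl (by omega)) hη inn_le_DD le_top (by rw [hst]) (fun a _ d hd => norm_DD hn a d hd)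
      hψ hψη hinv ?_
    intro ℓ _ P _ _
    by_cases hex : ∃ γ ∈ P, γ ∉ DD F n
    · obtain ⟨γ, hγ, hγ'⟩ := hex
      refine ⟨γ, hγ, fun α _ => ?_⟩
      rcases cases_DD hn α with h3 | ⟨b, hb, rfl⟩
      · exact ⟨0, α, h3, by rw [zpow_zero, mul_one]⟩
      · rcases cases_DD hn γ with h4 | ⟨c, hc, rfl⟩
        · exact absurd h4 hγ'
        · refine ⟨1, b * c⁻¹, (DD F n).mul_mem hb ((DD F n).inv_mem hc), ?_⟩
          rw [zpow_one]
          group
    · push Not at hex
      exact ⟨1, P.one_mem, fun α hα => ⟨0, α, hex α hα, by rw [zpow_zero, mul_one]⟩⟩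

end Cfsg.Agent.H732.ExtPSL
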